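import Mathlib
import Cfsg.Agent.H20.FrobTits

/-!
# S2223 (HALLPRO, C3): facts on `A₆` (helper173)
-/

set_option autoImplicit false
set_option maxRecDepth 100000

namespace Cfsg.Agent.H173.Hall.A6

open Subgroup Equiv

abbrev AA := alternatingGroup (Fin 6)

def f0P : Perm (Fin 6) := ⟨![1, 2, 3, 0, 5, 4], ![3, 0, 1, 2, 5, 4], by decide, by decide⟩
def e0P : Perm (Fin 6) := ⟨![2, 1, 0, 3, 5, 4], ![2, 1, 0, 3, 5, 4], by decide, by decide⟩
def b0P : Perm (Fin 6) := ⟨![4, 0, 5, 2, 1, 3], ![1, 4, 3, 5, 0, 2], by decide, by decide⟩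
def x0P : Perm (Fin 6) := ⟨![1, 2, 3, 4, 0, 5], ![4, 0, 1, 2, 3, 5], by decide, by decide⟩
def y0P : Perm (Fin 6) := ⟨![0, 4, 3, 2, 1, 5], ![0, 4, 3, 2, 1, 5], by decide, by decide⟩

def f0 : AA := ⟨f0P, Perm.mem_alternatingGroup.2 (by decide)⟩
def e0 : AA := ⟨e0P, Perm.mem_alternatingGroup.2 (by decide)⟩
def b0 : AA := ⟨b0P, Perm.mem_alternatingGroup.2 (by decide)⟩
def x0 : AA := ⟨x0P, Perm.mem_alternatingGroup.2 (by decide)⟩
def y0 : AA := ⟨y0P, Perm.mem_alternatingGroup.2 (by decide)⟩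

theorem f4 : f0 ^ 4 = 1 := by decide
theorem f2 : f0 ^ 2 ≠ 1 := by decide
theorem e2 : e0 ^ 2 = 1 := by decide
theorem ef : e0 * f0 * e0⁻¹ = f0⁻¹ := by decide
theorem bz : b0 * f0 ^ 2 * b0⁻¹ = e0 := by decide
theorem be : b0 * e0 * b0⁻¹ = f0 ^ 2 * e0 := by decide
theorem x5 : x0 ^ 5 = 1 := by decide
theorem x1 : x0 ≠ 1 := by decide
theorem yx : y0 * x0 * y0⁻¹ = x0⁻¹ := by decide

theorem centP : ∀ g : Perm (Fin 6), g * f0P ^ 2 = f0P ^ 2 * g → g * e0P = e0P * g → Perm.sign g = 1 →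
    g = 1 ∨ g = f0P ^ 2 ∨ g = e0P ∨ g = f0P ^ 2 * e0P := by
  decide +kernel

theorem cent (g : AA) (h1 : g * f0 ^ 2 = f0 ^ 2 * g) (h2 : g * e0 = e0 * g) :
    g = 1 ∨ g = f0 ^ 2 ∨ g = e0 ∨ g = f0 ^ 2 * e0 := by
  rcases centP g.1 (congrArg Subtype.val h1) (congrArg Subtype.val h2) (Perm.mem_alternatingGroup.1 g.2) with
    h | h | h | h
  · exact Or.inl (Subtype.ext h)
  · exact Or.inr (Or.inl (Subtype.ext h))
  · exact Or.inr (Or.inr (Or.inl (Subtype.ext h)))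
  · exact Or.inr (Or.inr (Or.inr (Subtype.ext h)))

theorem centxP : ∀ g : Perm (Fin 6), g * x0P = x0P * g → g ^ 5 = 1 := by
  decide +kernel

/-- the centralizer of `x₀` has exponent 5 -/
theorem centx (g : AA) (h1 : g * x0 = x0 * g) : g ^ 5 = 1 := Subtype.ext (centxP g.1 (congrArg Subtype.val h1))

theorem card_AA : Nat.card AA = 360 := by
  rw [nat_card_alternatingGroup, Nat.card_fin]; rfl

theorem order_x0 : orderOf x0 = 5 := by
  have : Fact (Nat.Prime 5) := ⟨by norm_num⟩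
  exact orderOf_eq_prime x5 x1

/-- the elements of order 5 are conjugate to powers of `x₀` -/
theorem exists_conj (y : AA) (hy : y ^ 5 = 1) (hy1 : y ≠ 1) :
    ∃ g : AA, g * y * g⁻¹ = x0 ∨ g * y * g⁻¹ = x0 ^ 2 ∨ g * y * g⁻¹ = x0 ^ 3 ∨ g * y * g⁻¹ = x0 ^ 4 := by
  obtain ⟨g, hg⟩ := H20.FrobTits.exists_conj_mem (p := 5) (a := 1) (by norm_num) (R := zpowers x0)
    (by rw [Nat.card_zpowers, order_x0, pow_one]) (by
      intro hd
      have h1 := (zpowers x0).card_mul_index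
      rw [Nat.card_zpowers, order_x0, card_AA] at h1
      omega) (b := 1) (y := y) (by rw [pow_one, hy])
  refine ⟨g, ?_⟩
  obtain ⟨n, hn, hn'⟩ : ∃ n : ℕ, n < 5 ∧ g * y * g⁻¹ = x0 ^ n := by
    obtain ⟨m, hm⟩ := mem_zpowers_iff.1 hg
    refine ⟨(m % 5).toNat, by omega, ?_⟩
    rw [← hm, ← zpow_natCast, Int.toNat_of_nonneg (by omega)]
    have := zpow_mod_orderOf x0 m
    rw [order_x0] at this
    exact this.symm
  interval_cases n
  · exfalso
    rw [pow_zero] at hn'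
    exact hy1 (conj_eq_one_iff.1 hn')
  · rw [pow_one] at hn'
    exact Or.inl hn'
  · exact Or.inr (Or.inl hn')
  · exact Or.inr (Or.inr (Or.inl hn'))
  · exact Or.inr (Or.inr (Or.inr hn'))

end Cfsg.Agent.H173.Hall.A6
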