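import Mathlib

/-!
# S2223 (HALLPRO, C3): a four-group in dimension 3 (helper173)

`z, e` commuting involutions, `b` permutes `z, e, ze` cyclically, `ρ z ≠ 1`, `dim V = 3`:

* `exists_basis` : the three eigenlines of `⟨z, e⟩`;
* `comm_of_comm` : elements which commute with `z, e` commute with each other on `V`;
* `scalar_of_comm` : elements which commute with `z, e, b` are scalar.

`no_square`: an element of order 5 is not conjugate to its square.
-/

set_option autoImplicit false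

namespace Cfsg.Agent.H173.Hall

variable {k : Type*} [Field k] {V : Type*} [AddCommGroup V] [Module k V] {A : Type*} [Group A]
  (ρ : A →* (V →ₗ[k] V))

/-- the relations -/
structure Four (z e b : A) : Prop where
  zz : z * z = 1
  ee : e * e = 1
  ze : z * e = e * z
  bz : b * z * b⁻¹ = e
  be : b * e * b⁻¹ = z * e

variable {ρ} {z e b : A}

theorem Four.bz' (h : Four z e b) : b * z = e * b := mul_inv_eq_iff_eq_mul.1 h.bz
theorem Four.be' (h : Four z e b) : b * e = z * e * b := mul_inv_eq_iff_eq_mul.1 h.be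

theorem exists_vec (h : Four z e b) (h2 : (2 : k) ≠ 0) (hρ : ρ z ≠ 1) : ∃ v : V, v ≠ 0 ∧ ρ z v = v ∧ ρ e v = -v := by
  by_contra hcon
  push Not at hcon
  have hm : ∀ (x y : A) (v : V), ρ x (ρ y v) = ρ (x * y) v := fun x y v => by rw [map_mul, Module.End.mul_apply]
  have h1 : ∀ v : V, v + ρ z v - ρ e v - ρ (z * e) v = 0 := by
    intro v
    by_contra hne
    apply hcon _ hne
    · rw [map_sub, map_sub, map_add, hm, hm, hm, h.zz, ← mul_assoc, h.zz, one_mul, map_one, Module.End.one_apply]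
      abel
    · rw [map_sub, map_sub, map_add, hm, hm, hm, h.ee, ← mul_assoc, ← h.ze, mul_assoc, h.ee, mul_one, map_one,
        Module.End.one_apply]
      abel
  have hzz : b * z * e * b⁻¹ = z := by
    calc b * z * e * b⁻¹ = (b * z * b⁻¹) * (b * e * b⁻¹) := by group
      _ = e * (z * e) := by rw [h.bz, h.be]
      _ = z * (e * e) := by rw [← mul_assoc, ← h.ze, mul_assoc]
      _ = z := by rw [h.ee, mul_one]
  have h1' : ∀ v : V, v + ρ e v - ρ (z * e) v - ρ z v = 0 := by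
    intro v
    have := congrArg (ρ b) (h1 (ρ b⁻¹ v))
    rw [map_sub, map_sub, map_add, map_zero, hm, hm, hm, hm, hm, hm, hm] at this
    rw [show b * b⁻¹ = 1 by group, map_one, Module.End.one_apply, ← mul_assoc, h.bz, h.be, hzz] at this
    exact this
  have h1'' : ∀ v : V, v + ρ (z * e) v - ρ z v - ρ e v = 0 := by
    intro v
    have := congrArg (ρ b) (h1' (ρ b⁻¹ v))
    rw [map_sub, map_sub, map_add, map_zero, hm, hm, hm, hm, hm, hm, hm] at this
    rw [show b * b⁻¹ = 1 by group, map_one, Module.End.one_apply, ← mul_assoc, h.bz, h.be, hzz] at this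
    exact this
  have hE : ∀ v : V, ρ e v = v := by
    intro v
    have h3 : (2 : k) • (v - ρ e v) = 0 := by
      have h4 : (v + ρ z v - ρ e v - ρ (z * e) v) + (v + ρ (z * e) v - ρ z v - ρ e v) = 0 := by
        rw [h1, h1'', add_zero]
      rw [two_smul, ← h4]
      abel
    rcases smul_eq_zero.1 h3 with h4 | h4
    · exact absurd h4 h2
    · exact (sub_eq_zero.1 h4).symm
  apply hρ
  have h5 : z = b⁻¹ * e * b := by rw [← h.bz]; group
  ext v
  rw [h5, ← hm, ← hm, hE, hm, inv_mul_cancel, map_one]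

/-- the basis -/
structure Bas (ρ : A →* (V →ₗ[k] V)) (z e b : A) (v₁ v₂ v₃ : V) : Prop where
  z1 : ρ z v₁ = v₁
  e1 : ρ e v₁ = -v₁
  z2 : ρ z v₂ = -v₂
  e2 : ρ e v₂ = v₂
  z3 : ρ z v₃ = -v₃
  e3 : ρ e v₃ = -v₃
  b1 : ρ b v₁ = v₂
  b2 : ρ b v₂ = v₃
  span : ∀ w : V, ∃ a₁ a₂ a₃ : k, w = a₁ • v₁ + a₂ • v₂ + a₃ • v₃

theorem exists_basis (h : Four z e b) (h2 : (2 : k) ≠ 0) (hρ : ρ z ≠ 1) (hd : Module.finrank k V = 3) :
    ∃ v₁ v₂ v₃ : V, Bas ρ z e b v₁ v₂ v₃ := by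
  obtain ⟨v, hv, hz, he⟩ := exists_vec h h2 hρ
  have hm : ∀ (x y : A) (v : V), ρ x (ρ y v) = ρ (x * y) v := fun x y v => by rw [map_mul, Module.End.mul_apply]
  have e2 : ρ e (ρ b v) = ρ b v := by
    rw [hm, ← h.bz', ← hm, hz]
  have z2 : ρ z (ρ b v) = -ρ b v := by
    have h3 : ρ (z * e * b) v = -ρ b v := by rw [← h.be', ← hm, he, map_neg]
    rw [← hm, ← hm, e2] at h3
    exact h3
  have e3 : ρ e (ρ b (ρ b v)) = -ρ b (ρ b v) := by
    rw [hm e b, ← h.bz', ← hm b z, z2, map_neg]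
  have z3 : ρ z (ρ b (ρ b v)) = -ρ b (ρ b v) := by
    have h3 : ρ (z * e * b) (ρ b v) = ρ b (ρ b v) := by rw [← h.be', ← hm, e2]
    rw [← hm, ← hm, e3, map_neg] at h3
    rw [← neg_eq_iff_eq_neg, h3]
  have two : ∀ w : V, w + w = 0 → w = 0 := by
    intro w hw
    rw [← two_smul k w] at hw
    exact (smul_eq_zero.1 hw).resolve_left h2
  have inj : ∀ w : V, ρ b w = 0 → w = 0 := by
    intro w hw
    have := congrArg (ρ b⁻¹) hw
    rwa [hm, inv_mul_cancel, map_one, Module.End.one_apply, map_zero] at this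
  have hb : ρ b v ≠ 0 := fun h => hv (inj _ h)
  have hbb : ρ b (ρ b v) ≠ 0 := fun h => hb (inj _ h)
  have li : LinearIndependent k ![v, ρ b v, ρ b (ρ b v)] := by
    rw [Fintype.linearIndependent_iff]
    intro g hg
    rw [Fin.sum_univ_three] at hg
    have hg' : g 0 • v + g 1 • ρ b v + g 2 • ρ b (ρ b v) = 0 := hg
    have hgz := congrArg (ρ z) hg'
    rw [map_add, map_add, map_smul, map_smul, map_smul, hz, z2, z3, map_zero] at hgz
    have h3 : g 0 • v = 0 := by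
      apply two
      calc g 0 • v + g 0 • v = (g 0 • v + g 1 • ρ b v + g 2 • ρ b (ρ b v)) +
          (g 0 • v + g 1 • -ρ b v + g 2 • -ρ b (ρ b v)) := by rw [smul_neg, smul_neg]; abel
        _ = 0 := by rw [hg', hgz, add_zero]
    have hg2 : g 1 • ρ b v + g 2 • ρ b (ρ b v) = 0 := by rwa [h3, zero_add] at hg'
    have hge := congrArg (ρ e) hg2
    rw [map_add, map_smul, map_smul, e2, e3, map_zero] at hge
    have h4 : g 1 • ρ b v = 0 := by
      apply two
      calc g 1 • ρ b v + g 1 • ρ b v = (g 1 • ρ b v + g 2 • ρ b (ρ b v)) + (g 1 • ρ b v + g 2 • -ρ b (ρ b v)) := by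
            rw [smul_neg]; abel
        _ = 0 := by rw [hg2, hge, add_zero]
    have h5 : g 2 • ρ b (ρ b v) = 0 := by rwa [h4, zero_add] at hg2
    intro i
    fin_cases i
    · exact (smul_eq_zero.1 h3).resolve_right hv
    · exact (smul_eq_zero.1 h4).resolve_right hb
    · exact (smul_eq_zero.1 h5).resolve_right hbb
  refine ⟨v, ρ b v, ρ b (ρ b v), hz, he, z2, e2, z3, e3, rfl, rfl, fun w => ?_⟩
  have h3 := li.span_eq_top_of_card_eq_finrank (by rw [hd, Fintype.card_fin])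
  have h4 : w ∈ Submodule.span k (Set.range ![v, ρ b v, ρ b (ρ b v)]) := by rw [h3]; exact Submodule.mem_top
  obtain ⟨c, hc⟩ := (Submodule.mem_span_range_iff_exists_fun k).1 h4
  refine ⟨c 0, c 1, c 2, ?_⟩
  rw [← hc, Fin.sum_univ_three]
  rfl

theorem two_cancel (h2 : (2 : k) ≠ 0) {w w' : V} (h : w + w = w' + w') : w = w' := by
  have h3 : (2 : k) • (w - w') = 0 := by
    rw [two_smul]
    calc w - w' + (w - w') = (w + w) - (w' + w') := by abel
      _ = 0 := by rw [h, sub_self]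
  exact sub_eq_zero.1 ((smul_eq_zero.1 h3).resolve_left h2)

namespace Bas

variable {v₁ v₂ v₃ : V} (B : Bas ρ z e b v₁ v₂ v₃) (h2 : (2 : k) ≠ 0)

include B h2

theorem eig1 {w : V} (hw : ρ z w = w) : ∃ a : k, w = a • v₁ := by
  obtain ⟨a₁, a₂, a₃, h⟩ := B.span w
  have h3 : w = a₁ • v₁ - a₂ • v₂ - a₃ • v₃ := by
    rw [← hw, h, map_add, map_add, map_smul, map_smul, map_smul, B.z1, B.z2, B.z3, smul_neg, smul_neg]
    abel
  refine ⟨a₁, two_cancel h2 ?_⟩
  nth_rewrite 1 [h]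
  rw [h3]
  abel

theorem eig2 {w : V} (hw : ρ e w = w) : ∃ a : k, w = a • v₂ := by
  obtain ⟨a₁, a₂, a₃, h⟩ := B.span w
  have h3 : w = -(a₁ • v₁) + a₂ • v₂ - a₃ • v₃ := by
    rw [← hw, h, map_add, map_add, map_smul, map_smul, map_smul, B.e1, B.e2, B.e3, smul_neg, smul_neg]
    abel
  refine ⟨a₂, two_cancel h2 ?_⟩
  nth_rewrite 1 [h]
  rw [h3]
  abel

theorem eig3 {w : V} (hw : ρ z (ρ e w) = w) : ∃ a : k, w = a • v₃ := by
  obtain ⟨a₁, a₂, a₃, h⟩ := B.span w
  have h3 : ρ z (ρ e w) = -(a₁ • v₁) - a₂ • v₂ + a₃ • v₃ := by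
    rw [h]
    simp only [map_add, map_smul, B.e1, B.e2, B.e3, map_neg, B.z1, B.z2, B.z3, smul_neg, neg_neg]
    abel
  rw [hw] at h3
  refine ⟨a₃, two_cancel h2 ?_⟩
  nth_rewrite 1 [h]
  rw [h3]
  abel

/-- elements commuting with `z, e` are diagonal -/
theorem diag {g : A} (hz : g * z = z * g) (he : g * e = e * g) :
    ∃ a₁ a₂ a₃ : k, ρ g v₁ = a₁ • v₁ ∧ ρ g v₂ = a₂ • v₂ ∧ ρ g v₃ = a₃ • v₃ := by
  have hm : ∀ (x y : A) (v : V), ρ x (ρ y v) = ρ (x * y) v := fun x y v => by rw [map_mul, Module.End.mul_apply]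
  obtain ⟨a₁, h1⟩ := B.eig1 h2 (w := ρ g v₁) (by rw [hm, ← hz, ← hm, B.z1])
  obtain ⟨a₂, h2'⟩ := B.eig2 h2 (w := ρ g v₂) (by rw [hm, ← he, ← hm, B.e2])
  obtain ⟨a₃, h3⟩ := B.eig3 h2 (w := ρ g v₃) (by
    rw [hm e g, ← he, ← hm g e, B.e3, map_neg, map_neg, hm z g, ← hz, ← hm g z, B.z3, map_neg, neg_neg])
  exact ⟨a₁, a₂, a₃, h1, h2', h3⟩

omit h2 in
theorem ext {f g : V →ₗ[k] V} (h1 : f v₁ = g v₁) (h2 : f v₂ = g v₂) (h3 : f v₃ = g v₃) : f = g := by
  ext w
  obtain ⟨a₁, a₂, a₃, h⟩ := B.span w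
  rw [h, map_add, map_add, map_smul, map_smul, map_smul, map_add, map_add, map_smul, map_smul, map_smul, h1, h2, h3]

theorem comm_of_comm {g g' : A} (hz : g * z = z * g) (he : g * e = e * g) (hz' : g' * z = z * g')
    (he' : g' * e = e * g') : ρ (g * g') = ρ (g' * g) := by
  obtain ⟨a₁, a₂, a₃, h1, h2', h3⟩ := B.diag h2 hz he
  obtain ⟨c₁, c₂, c₃, k1, k2, k3⟩ := B.diag h2 hz' he'
  rw [map_mul, map_mul]
  apply B.ext <;> rw [Module.End.mul_apply, Module.End.mul_apply]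
  · rw [k1, h1, map_smul, map_smul, k1, h1, smul_comm]
  · rw [k2, h2', map_smul, map_smul, k2, h2', smul_comm]
  · rw [k3, h3, map_smul, map_smul, k3, h3, smul_comm]

theorem scalar_of_comm {g : A} (hz : g * z = z * g) (he : g * e = e * g) (hb : g * b = b * g) :
    ∃ a : k, ∀ v : V, ρ g v = a • v := by
  have hm : ∀ (x y : A) (v : V), ρ x (ρ y v) = ρ (x * y) v := fun x y v => by rw [map_mul, Module.End.mul_apply]
  obtain ⟨a₁, a₂, a₃, h1, h2', h3⟩ := B.diag h2 hz he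
  refine ⟨a₁, fun v => ?_⟩
  have h4 : ρ g v₂ = a₁ • v₂ := by rw [← B.b1, hm, hb, ← hm, h1, map_smul]
  have h5 : ρ g v₃ = a₁ • v₃ := by rw [← B.b2, hm, hb, ← hm, h4, map_smul]
  have h6 := B.ext (f := ρ g) (g := a₁ • LinearMap.id) (by simpa using h1) (by simpa using h4) (by simpa using h5)
  rw [h6]
  rfl

end Bas

/-! ### elements of order 5 -/

/-- an element `x ≠ 1` with `x ^ 5 = 1` has an eigenvalue `≠ 1` -/
theorem exists_eig [IsAlgClosed k] [FiniteDimensional k V] (h5 : (5 : k) ≠ 0) {x : V →ₗ[k] V} (hx : x ^ 5 = 1) (hx1 : x ≠ 1) :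
    ∃ (a : k) (v : V), v ≠ 0 ∧ x v = a • v ∧ a ≠ 1 := by
  let W := LinearMap.range (x - 1)
  have hW : ∀ w ∈ W, x w ∈ W := by
    rintro _ ⟨w, rfl⟩
    exact ⟨x w, by simp [LinearMap.sub_apply]⟩
  have hnt : Nontrivial W := by
    rw [Submodule.nontrivial_iff_ne_bot]
    intro h
    apply hx1
    rw [LinearMap.range_eq_bot, sub_eq_zero] at h
    exact h
  obtain ⟨a, ha⟩ := Module.End.exists_eigenvalue (x.restrict hW)
  obtain ⟨w, hw⟩ := ha.exists_hasEigenvector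
  have hw1 : x w = a • (w : V) := by
    have := congrArg Subtype.val hw.apply_eq_smul
    exact this
  have hw0 : (w : V) ≠ 0 := fun h => hw.2 (Subtype.ext h)
  refine ⟨a, w, hw0, hw1, ?_⟩
  rintro rfl
  rw [one_smul] at hw1
  obtain ⟨u, hu⟩ := w.2
  apply hw0
  have h1 : (1 + x + x ^ 2 + x ^ 3 + x ^ 4) * (x - 1) = 0 := by
    have : (1 + x + x ^ 2 + x ^ 3 + x ^ 4) * (x - 1) = x ^ 5 - 1 := by noncomm_ring
    rw [this, hx, sub_self]
  have h2 : (1 + x + x ^ 2 + x ^ 3 + x ^ 4 : V →ₗ[k] V) (w : V) = 0 := by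
    rw [← hu, ← Module.End.mul_apply, h1]; rfl
  have h3 : ∀ n : ℕ, (x ^ n) (w : V) = w := by
    intro n
    induction n with
    | zero => rfl
    | succ n ih => rw [pow_succ, Module.End.mul_apply, hw1, ih]
  have h4 : (5 : k) • (w : V) = 0 := by
    rw [LinearMap.add_apply, LinearMap.add_apply, LinearMap.add_apply, LinearMap.add_apply, h3, h3, h3, hw1,
      Module.End.one_apply] at h2
    rw [← h2, show (5 : k) = 1 + 1 + 1 + 1 + 1 by norm_num, add_smul, add_smul, add_smul, add_smul, one_smul]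
  exact (smul_eq_zero.1 h4).resolve_left h5

theorem no_square [IsAlgClosed k] [FiniteDimensional k V] (h5 : (5 : k) ≠ 0) (hd : Module.finrank k V = 3) {x g : A} (hx : x ^ 5 = 1)
    (hx1 : ρ x ≠ 1) (hg : g * x * g⁻¹ = x ^ 2) : False := by
  obtain ⟨a, v, hv, hxv, ha⟩ := exists_eig (x := ρ x) h5 (by rw [← map_pow, hx, map_one]) hx1
  have hm : ∀ (x y : A) (v : V), ρ x (ρ y v) = ρ (x * y) v := fun x y v => by rw [map_mul, Module.End.mul_apply]
  have hpow : ∀ (n : ℕ) (c : k) (w : V), ρ x w = c • w → ρ (x ^ n) w = c ^ n • w := by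
    intro n c w hw
    induction n with
    | zero => simp
    | succ n ih => rw [pow_succ, ← hm, hw, map_smul, ih, smul_smul, pow_succ']
  have ha5 : a ^ 5 = 1 := by
    have h1 := hpow 5 a v hxv
    rw [hx, map_one, Module.End.one_apply] at h1
    have h2 : (a ^ 5 - 1) • v = 0 := by rw [sub_smul, one_smul, ← h1, sub_self]
    exact sub_eq_zero.1 ((smul_eq_zero.1 h2).resolve_right hv)
  have inj : ∀ w : V, w ≠ 0 → ρ g⁻¹ w ≠ 0 := by
    intro w hw h
    apply hw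
    have := congrArg (ρ g) h
    rwa [hm, mul_inv_cancel, map_one, Module.End.one_apply, map_zero] at this
  have step : ∀ (c : k) (w : V), ρ x w = c • w → ρ x (ρ g⁻¹ w) = c ^ 2 • ρ g⁻¹ w := by
    intro c w hw
    have h1 : x * g⁻¹ = g⁻¹ * x ^ 2 := by rw [← hg]; group
    rw [hm, h1, ← hm, hpow 2 c w hw, map_smul]
  have s1 := step _ _ hxv
  have s2 := step _ _ s1
  have s3 := step _ _ s2
  have hf : Fact (Nat.Prime 5) := ⟨by norm_num⟩
  have hoa : orderOf a = 5 := orderOf_eq_prime ha5 ha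
  have e3 : ((a ^ 2) ^ 2) ^ 2 = a ^ 3 := by
    rw [← pow_mul, ← pow_mul, show 2 * 2 * 2 = 5 + 3 by norm_num, pow_add, ha5, one_mul]
  rw [e3] at s3
  have e2 : (a ^ 2) ^ 2 = a ^ 4 := by rw [← pow_mul]
  rw [e2] at s2
  let μ : Fin 4 → k := fun i => a ^ ((![1, 2, 4, 3] : Fin 4 → ℕ) i)
  let w : Fin 4 → V := ![v, ρ g⁻¹ v, ρ g⁻¹ (ρ g⁻¹ v), ρ g⁻¹ (ρ g⁻¹ (ρ g⁻¹ v))]
  have hμ : Function.Injective μ := by
    intro i j hij
    have hp := IsPrimitiveRoot.orderOf a
    rw [hoa] at hp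
    have hl : ∀ i : Fin 4, (![1, 2, 4, 3] : Fin 4 → ℕ) i < 5 := by decide
    have h1 := hp.pow_inj (hl i) (hl j) hij
    revert h1
    clear hij
    revert i j
    decide
  have li := Module.End.eigenvectors_linearIndependent' (ρ x) μ hμ w (by
    intro i
    rw [Module.End.hasEigenvector_iff]
    fin_cases i
    · exact ⟨Module.End.mem_eigenspace_iff.2 (by simpa [μ, w] using hxv), hv⟩
    · exact ⟨Module.End.mem_eigenspace_iff.2 (by simpa [μ, w] using s1), inj _ hv⟩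
    · exact ⟨Module.End.mem_eigenspace_iff.2 (by simpa [μ, w] using s2), inj _ (inj _ hv)⟩
    · exact ⟨Module.End.mem_eigenspace_iff.2 (by simpa [μ, w] using s3), inj _ (inj _ (inj _ hv))⟩)
  have h1 := li.fintype_card_le_finrank
  rw [hd, Fintype.card_fin] at h1
  omega

end Cfsg.Agent.H173.Hall
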