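import Cfsg.Agent.H173.Hall.Dih
import Cfsg.Agent.H173.Hall.Lin
import Cfsg.Agent.H173.Hall.A6

/-!
# S2223 (HALLPRO, C3): `A₆` in dimension 3, the main argument (helper173)

`Ctx ρ L π P` : `A = L P`, `L` normal and perfect, `L / Z(L) = A₆`, `ρ` of degree 3 and faithful on `L`, `P` a Sylow
2-subgroup with `C_P(L) = 1`, `|P| ≥ 16`. Then `P` has no generalized quaternion subgroup.
-/

set_option autoImplicit false
set_option linter.unusedSectionVars false

namespace Cfsg.Agent.H173.Hall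

open Subgroup Cfsg.Agent.Cit A6

variable {k : Type*} [Field k] [IsAlgClosed k] {V : Type*} [AddCommGroup V] [Module k V] [FiniteDimensional k V]
  {A : Type*} [Group A] [Finite A]

/-- the context -/
structure Ctx (ρ : A →* (V →ₗ[k] V)) (L : Subgroup A) (π : L →* AA) (P : Sylow 2 A) : Prop where
  dim : Module.finrank k V = 3
  two : (2 : k) ≠ 0
  five : (5 : k) ≠ 0
  norm : L.Normal
  perf : commutator L = ⊤
  faith : ∀ x ∈ L, ρ x = 1 → x = 1
  surj : Function.Surjective π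
  ker : ∀ x : L, π x = 1 → ∀ y : L, x * y = y * x
  sup : ∀ a : A, ∃ l ∈ L, ∃ p ∈ (P : Subgroup A), a = l * p
  card : 16 ≤ Nat.card P
  cent : ∀ a ∈ (P : Subgroup A), (∀ x ∈ L, a * x = x * a) → a = 1

theorem exists_conj_syl (P : Sylow 2 A) {H : Subgroup A} (hH : IsPGroup 2 H) :
    ∃ g : A, ∀ h ∈ H, g * h * g⁻¹ ∈ (P : Subgroup A) := by
  have : Fact (Nat.Prime 2) := ⟨Nat.prime_two⟩
  obtain ⟨Q, hQ⟩ := hH.exists_le_sylow
  obtain ⟨g, hg⟩ := MulAction.exists_smul_eq A Q P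
  refine ⟨g, fun h hh => ?_⟩
  rw [← hg, Sylow.coe_subgroup_smul]
  exact Subgroup.smul_mem_pointwise_smul _ _ _ (hQ hh)

theorem exists_conj_syl' (P : Sylow 2 A) {a : A} {n : ℕ} (ha : a ^ 2 ^ n = 1) :
    ∃ g : A, g * a * g⁻¹ ∈ (P : Subgroup A) := by
  obtain ⟨g, hg⟩ := exists_conj_syl P (H := zpowers a) (by
    rintro ⟨z, hz⟩
    obtain ⟨k, rfl⟩ := mem_zpowers_iff.1 hz
    refine ⟨n, Subtype.ext ?_⟩
    show (a ^ k) ^ 2 ^ n = 1
    rw [← zpow_natCast, ← zpow_mul, mul_comm, zpow_mul, zpow_natCast, ha, one_zpow])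
  exact ⟨g, hg a (mem_zpowers a)⟩

namespace Ctx

variable {ρ : A →* (V →ₗ[k] V)} {L : Subgroup A} {π : L →* AA} {P : Sylow 2 A} (C : Ctx ρ L π P)

include C

/-- a 2-element which centralizes `L` is trivial -/
theorem two_cent {a : A} {n : ℕ} (ha : a ^ 2 ^ n = 1) (hc : ∀ x ∈ L, a * x = x * a) : a = 1 := by
  have := C.norm
  obtain ⟨g, hg⟩ := exists_conj_syl' P ha
  have h1 := C.cent _ hg (fun x hx => by
    have h2 : g⁻¹ * x * g ∈ L := by
      have := C.norm.conj_mem x hx g⁻¹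
      rwa [inv_inv] at this
    have h3 := hc _ h2
    calc g * a * g⁻¹ * x = g * (a * (g⁻¹ * x * g)) * g⁻¹ := by group
      _ = g * ((g⁻¹ * x * g) * a) * g⁻¹ := by rw [h3]
      _ = x * (g * a * g⁻¹) := by group)
  exact conj_eq_one_iff.1 h1

theorem odd_center : ¬ 2 ∣ Nat.card (center L) := by
  intro hd
  have : Fact (Nat.Prime 2) := ⟨Nat.prime_two⟩
  obtain ⟨z, hz⟩ := exists_prime_orderOf_dvd_card' 2 hd
  have h1 : ((z : L) : A) = 1 := by
    apply C.two_cent (n := 1)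
    · have h2 : z ^ 2 = 1 := by rw [← hz, pow_orderOf_eq_one]
      have h3 := congrArg (fun t : center L => ((t : L) : A)) h2
      simpa using h3
    · intro x hx
      have h2 := (mem_center_iff.1 z.2) ⟨x, hx⟩
      exact (congrArg Subtype.val h2).symm
  have h2 : z = 1 := Subtype.ext (Subtype.ext h1)
  rw [h2, orderOf_one] at hz
  omega

theorem mem_center {x : L} (hx : π x = 1) : x ∈ center L := mem_center_iff.2 fun y => (C.ker x hx y).symm

theorem lift_ex {r : ℕ} (hr : 1 < r) (hc : (Nat.card (center L)).Coprime r) {g : AA} (hg : g ^ r = 1) :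
    ∃ l : L, π l = g ∧ l ^ r = 1 := by
  obtain ⟨l₁, h1⟩ := C.surj g
  obtain ⟨m, -, hm⟩ := Nat.exists_mul_mod_eq_one_of_coprime hc hr
  have h2 : l₁ ^ r ∈ center L := C.mem_center (by rw [map_pow, h1, hg])
  have h3 : (l₁ ^ r) ^ Nat.card (center L) = 1 := by
    have := pow_card_eq_one' (x := (⟨_, h2⟩ : center L))
    exact congrArg Subtype.val this
  refine ⟨l₁ ^ (Nat.card (center L) * m), ?_, ?_⟩
  · rw [map_pow, h1]
    have h4 := Nat.div_add_mod (Nat.card (center L) * m) r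
    rw [hm] at h4
    rw [← h4, pow_add, pow_mul, hg, one_pow, one_mul, pow_one]
  · rw [← pow_mul, mul_comm, pow_mul, pow_mul, h3, one_pow]

theorem lift_inj {r : ℕ} (hc : (Nat.card (center L)).Coprime r) {l l' : L} (h : l ^ r = 1) (h' : l' ^ r = 1)
    (hπ : π l = π l') : l = l' := by
  have h1 : π (l * l'⁻¹) = 1 := by rw [map_mul, map_inv, hπ, mul_inv_cancel]
  have h2 := C.mem_center h1
  have h3 : (l * l'⁻¹) ^ Nat.card (center L) = 1 := by
    have := pow_card_eq_one' (x := (⟨_, h2⟩ : center L))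
    exact congrArg Subtype.val this
  have h4 : (l * l'⁻¹) ^ r = 1 := by
    have h5 : Commute (l * l'⁻¹) l' := C.ker _ h1 l'
    have h6 : (l * l'⁻¹ * l') ^ r = (l * l'⁻¹) ^ r * l' ^ r := h5.mul_pow r
    rw [inv_mul_cancel_right, h, h', mul_one] at h6
    exact h6.symm
  have h5 := Nat.dvd_gcd (orderOf_dvd_of_pow_eq_one h3) (orderOf_dvd_of_pow_eq_one h4)
  rw [Nat.Coprime.gcd_eq_one hc, Nat.dvd_one, orderOf_eq_one_iff] at h5
  rwa [mul_inv_eq_one] at h5

theorem cop_two : (Nat.card (center L)).Coprime 2 :=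
  ((Nat.Prime.coprime_iff_not_dvd Nat.prime_two).2 C.odd_center).symm

theorem cop_four : (Nat.card (center L)).Coprime 4 := by
  rw [show 4 = 2 ^ 2 by norm_num]
  exact C.cop_two.pow_right 2

end Ctx

/-- the elements `f, e, b` -/
structure FE (L : Subgroup A) (f e b : A) : Prop where
  fL : f ∈ L
  eL : e ∈ L
  bL : b ∈ L
  f4 : f ^ 4 = 1
  f2 : f ^ 2 ≠ 1
  ef : e * f * e⁻¹ = f⁻¹
  four : Four (f ^ 2) e b
  cen : ∀ g ∈ L, g * f ^ 2 = f ^ 2 * g → g * e = e * g → ∃ v : A, (v = 1 ∨ v = f ^ 2 ∨ v = e ∨ v = f ^ 2 * e) ∧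
    ∀ x ∈ L, (g * v⁻¹) * x = x * (g * v⁻¹)

theorem Four.conj {z e b : A} (h : Four z e b) (a : A) : Four (a * z * a⁻¹) (a * e * a⁻¹) (a * b * a⁻¹) where
  zz := by rw [← MulAut.conj_apply, ← map_mul, h.zz, map_one]
  ee := by rw [← MulAut.conj_apply, ← map_mul, h.ee, map_one]
  ze := by rw [← MulAut.conj_apply, ← MulAut.conj_apply, ← map_mul, h.ze, map_mul]
  bz := by
    calc a * b * a⁻¹ * (a * z * a⁻¹) * (a * b * a⁻¹)⁻¹ = a * (b * z * b⁻¹) * a⁻¹ := by group
      _ = a * e * a⁻¹ := by rw [h.bz]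
  be := by
    calc a * b * a⁻¹ * (a * e * a⁻¹) * (a * b * a⁻¹)⁻¹ = a * (b * e * b⁻¹) * a⁻¹ := by group
      _ = a * z * a⁻¹ * (a * e * a⁻¹) := by rw [h.be]; group

theorem FE.conj {L : Subgroup A} (hL : L.Normal) {f e b : A} (h : FE L f e b) (a : A) :
    FE L (a * f * a⁻¹) (a * e * a⁻¹) (a * b * a⁻¹) where
  fL := hL.conj_mem _ h.fL a
  eL := hL.conj_mem _ h.eL a
  bL := hL.conj_mem _ h.bL a
  f4 := by rw [conj_pow, h.f4]; group
  f2 := by
    rw [conj_pow]
    intro h1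
    exact h.f2 (conj_eq_one_iff.1 h1)
  ef := by
    calc a * e * a⁻¹ * (a * f * a⁻¹) * (a * e * a⁻¹)⁻¹ = a * (e * f * e⁻¹) * a⁻¹ := by group
      _ = (a * f * a⁻¹)⁻¹ := by rw [h.ef]; group
  four := by
    rw [conj_pow]
    exact h.four.conj a
  cen := by
    intro g hg h1 h2
    rw [conj_pow] at h1
    have hg' : a⁻¹ * g * a ∈ L := by
      have := hL.conj_mem g hg a⁻¹
      rwa [inv_inv] at this
    have h3 : (a⁻¹ * g * a) * f ^ 2 = f ^ 2 * (a⁻¹ * g * a) := by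
      calc (a⁻¹ * g * a) * f ^ 2 = a⁻¹ * (g * (a * f ^ 2 * a⁻¹)) * a := by group
        _ = a⁻¹ * ((a * f ^ 2 * a⁻¹) * g) * a := by rw [h1]
        _ = f ^ 2 * (a⁻¹ * g * a) := by group
    have h4 : (a⁻¹ * g * a) * e = e * (a⁻¹ * g * a) := by
      calc (a⁻¹ * g * a) * e = a⁻¹ * (g * (a * e * a⁻¹)) * a := by group
        _ = a⁻¹ * ((a * e * a⁻¹) * g) * a := by rw [h2]
        _ = e * (a⁻¹ * g * a) := by group
    obtain ⟨v, hv, hc⟩ := h.cen _ hg' h3 h4
    refine ⟨a * v * a⁻¹, ?_, ?_⟩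
    · rcases hv with rfl | rfl | rfl | rfl
      · left; group
      · right; left; rw [conj_pow]
      · right; right; left; rfl
      · right; right; right; rw [conj_pow]; group
    · intro x hx
      have h5 := hc (a⁻¹ * x * a) (by
        have := hL.conj_mem x hx a⁻¹
        rwa [inv_inv] at this)
      calc g * (a * v * a⁻¹)⁻¹ * x = a * ((a⁻¹ * g * a) * v⁻¹ * (a⁻¹ * x * a)) * a⁻¹ := by group
        _ = a * ((a⁻¹ * x * a) * ((a⁻¹ * g * a) * v⁻¹)) * a⁻¹ := by rw [h5]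
        _ = x * (g * (a * v * a⁻¹)⁻¹) := by group

namespace Ctx

variable {ρ : A →* (V →ₗ[k] V)} {L : Subgroup A} {π : L →* AA} {P : Sylow 2 A} (C : Ctx ρ L π P)

include C

theorem exists_FE : ∃ f e b : A, FE L f e b := by
  obtain ⟨f, hf, hf4⟩ := C.lift_ex (by norm_num) C.cop_four f4
  obtain ⟨e, he, he2⟩ := C.lift_ex (by norm_num) C.cop_two e2
  obtain ⟨b, hb⟩ := C.surj b0
  have hef : e * f * e⁻¹ = f⁻¹ := by
    apply C.lift_inj C.cop_four
    · rw [conj_pow, hf4]; group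
    · rw [inv_pow, hf4, inv_one]
    · rw [map_mul, map_mul, map_inv, map_inv, he, hf, ef]
  have hze : f ^ 2 * e = e * f ^ 2 := by
    have h1 : e * f ^ 2 * e⁻¹ = f ^ 2 := by
      rw [← conj_pow, hef, inv_pow, inv_eq_iff_mul_eq_one, ← pow_add, hf4]
    exact (mul_inv_eq_iff_eq_mul.1 h1).symm
  have hff : (f ^ 2) ^ 2 = 1 := by rw [← pow_mul, hf4]
  have hbz : b * f ^ 2 * b⁻¹ = e := by
    apply C.lift_inj C.cop_two
    · rw [conj_pow, hff]; group
    · exact he2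
    · rw [map_mul, map_mul, map_inv, map_pow, hb, hf, he, bz]
  have hbe : b * e * b⁻¹ = f ^ 2 * e := by
    apply C.lift_inj C.cop_two
    · rw [conj_pow, he2]; group
    · rw [(show Commute (f ^ 2) e from hze).mul_pow, hff, he2, one_mul]
    · rw [map_mul, map_mul, map_mul, map_inv, map_pow, hb, hf, he, be]
  have hf2 : f ^ 2 ≠ 1 := by
    intro h
    apply f2
    rw [← hf, ← map_pow, h, map_one]
  refine ⟨f, e, b, f.2, e.2, b.2, ?_, ?_, ?_, ⟨?_, ?_, ?_, ?_, ?_⟩, ?_⟩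
  · exact congrArg Subtype.val hf4
  · exact fun h => hf2 (Subtype.ext h)
  · exact congrArg Subtype.val hef
  · have := congrArg Subtype.val hff
    rw [pow_two] at this
    exact this
  · have := congrArg Subtype.val he2
    rw [pow_two] at this
    exact this
  · exact congrArg Subtype.val hze
  · exact congrArg Subtype.val hbz
  · exact congrArg Subtype.val hbe
  · intro g hg h1 h2
    have h3 : (⟨g, hg⟩ : L) * f ^ 2 = f ^ 2 * ⟨g, hg⟩ := Subtype.ext h1
    have h4 : (⟨g, hg⟩ : L) * e = e * ⟨g, hg⟩ := Subtype.ext h2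
    have h5 := congrArg π h3
    have h6 := congrArg π h4
    rw [map_mul, map_mul, map_pow, hf] at h5
    rw [map_mul, map_mul, he] at h6
    have key : ∀ v : L, π ⟨g, hg⟩ = π v → ∀ x ∈ L, (g * (v : A)⁻¹) * x = x * (g * (v : A)⁻¹) := by
      intro v hv x hx
      have h7 := C.ker (⟨g, hg⟩ * v⁻¹) (by rw [map_mul, map_inv, hv, mul_inv_cancel]) ⟨x, hx⟩
      exact congrArg Subtype.val h7
    rcases A6.cent _ h5 h6 with h | h | h | h
    · exact ⟨1, Or.inl rfl, key 1 (by rw [h, map_one])⟩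
    · exact ⟨((f ^ 2 : L) : A), Or.inr (Or.inl rfl), key (f ^ 2) (by rw [h, map_pow, hf])⟩
    · exact ⟨e, Or.inr (Or.inr (Or.inl rfl)), key e (by rw [h, he])⟩
    · exact ⟨((f ^ 2 * e : L) : A), Or.inr (Or.inr (Or.inr rfl)), key (f ^ 2 * e) (by rw [h, map_mul, map_pow, hf, he])⟩

/-- `f, e` may be chosen in `P` -/
theorem exists_FE' : ∃ f e b : A, FE L f e b ∧ f ∈ (P : Subgroup A) ∧ e ∈ (P : Subgroup A) := by
  obtain ⟨f, e, b, h⟩ := C.exists_FE
  have hf : IsPGroup 2 (zpowers f) := by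
    rintro ⟨z, hz⟩
    obtain ⟨k, rfl⟩ := mem_zpowers_iff.1 hz
    refine ⟨2, Subtype.ext ?_⟩
    show (f ^ k) ^ 2 ^ 2 = 1
    rw [← zpow_natCast, ← zpow_mul, mul_comm, zpow_mul, zpow_natCast, show 2 ^ 2 = 4 by norm_num, h.f4, one_zpow]
  have he : IsPGroup 2 (zpowers e) := by
    rintro ⟨z, hz⟩
    obtain ⟨k, rfl⟩ := mem_zpowers_iff.1 hz
    refine ⟨1, Subtype.ext ?_⟩
    show (e ^ k) ^ 2 ^ 1 = 1
    rw [← zpow_natCast, ← zpow_mul, mul_comm, zpow_mul, zpow_natCast, pow_one, pow_two, h.four.ee, one_zpow]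
  have hn : zpowers e ≤ normalizer (zpowers f : Set A) := by
    rw [zpowers_le, mem_normalizer_iff]
    intro x
    have h1 : ∀ i : ℤ, e * f ^ i * e⁻¹ = f ^ (-i) := by
      intro i
      rw [← conj_zpow, h.ef, inv_zpow, zpow_neg]
    have ei : e⁻¹ = e := inv_eq_of_mul_eq_one_right h.four.ee
    constructor
    · rintro ⟨i, rfl⟩
      exact ⟨-i, (h1 i).symm⟩
    · rintro ⟨i, hi⟩
      refine ⟨-i, ?_⟩
      show f ^ (-i) = x
      have hi' : f ^ i = e * x * e⁻¹ := hi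
      rw [← h1 i, hi']
      calc e * (e * x * e⁻¹) * e⁻¹ = (e * e) * x * (e * e)⁻¹ := by group
        _ = x := by rw [h.four.ee]; group
  have hp := he.to_sup_of_normal_right' hf hn
  obtain ⟨g, hg⟩ := exists_conj_syl P hp
  exact ⟨_, _, _, h.conj C.norm g, hg f (mem_sup_right (mem_zpowers f)), hg e (mem_sup_left (mem_zpowers e))⟩

theorem exists_bas {f e b : A} (h : FE L f e b) : ∃ v₁ v₂ v₃ : V, Bas ρ (f ^ 2) e b v₁ v₂ v₃ :=
  exists_basis h.four C.two (fun h1 => h.f2 (C.faith _ (pow_mem h.fL 2) h1)) C.dim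

/-- an element which is scalar centralizes `L` -/
theorem comm_of_scalar {g : A} {a : k} (hg : ∀ v : V, ρ g v = a • v) : ∀ x ∈ L, g * x = x * g := by
  intro x hx
  have h1 : g * x * g⁻¹ * x⁻¹ = 1 := by
    apply C.faith _ (mul_mem (C.norm.conj_mem x hx g) (inv_mem hx))
    have h2 : ρ g * ρ x = ρ x * ρ g := by
      ext v
      rw [Module.End.mul_apply, Module.End.mul_apply, hg, hg, map_smul]
    rw [map_mul, map_mul, map_mul, h2, mul_assoc (ρ x), ← map_mul, mul_inv_cancel, map_one, mul_one, ← map_mul,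
      mul_inv_cancel, map_one]
  rw [mul_inv_eq_one, mul_inv_eq_iff_eq_mul] at h1
  exact h1

theorem det_one {x : A} (hx : x ∈ L) : LinearMap.det (ρ x) = 1 := by
  let F : L →* k := (LinearMap.det : (V →ₗ[k] V) →* k).comp (ρ.comp L.subtype)
  have h1 : commutator L ≤ (MonoidHom.toHomUnits F).ker := Abelianization.commutator_subset_ker _
  rw [C.perf] at h1
  have h2 := MonoidHom.mem_ker.1 (h1 (mem_top (⟨x, hx⟩ : L)))
  have h3 := congrArg Units.val h2
  exact h3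

theorem cop_five : (Nat.card (center L)).Coprime 5 := by
  have hf : Fact (Nat.Prime 5) := ⟨by norm_num⟩
  rw [Nat.coprime_comm, Nat.Prime.coprime_iff_not_dvd hf.out]
  intro hd
  obtain ⟨z, hz⟩ := exists_prime_orderOf_dvd_card' 5 hd
  obtain ⟨f, e, b, h⟩ := C.exists_FE
  obtain ⟨v₁, v₂, v₃, B⟩ := C.exists_bas h
  have hcz : ∀ x ∈ L, ((z : L) : A) * x = x * ((z : L) : A) := by
    intro x hx
    exact (congrArg Subtype.val ((mem_center_iff.1 z.2) ⟨x, hx⟩)).symm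
  obtain ⟨a, ha⟩ := B.scalar_of_comm C.two (hcz _ (pow_mem h.fL 2)) (hcz _ h.eL) (hcz _ h.bL)
  have h1 : ρ ((z : L) : A) = a • LinearMap.id := by
    ext v
    rw [ha]; rfl
  have h3 : a ^ 3 = 1 := by
    have h2 := C.det_one (z : L).2
    rw [h1, LinearMap.det_smul, C.dim, LinearMap.det_id, mul_one] at h2
    exact h2
  have z5 : ((z : L) : A) ^ 5 = 1 := by
    have h2 : z ^ 5 = 1 := by rw [← hz, pow_orderOf_eq_one]
    have h3 := congrArg (fun t : center L => ((t : L) : A)) h2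
    simpa using h3
  have hnt : ∃ v : V, v ≠ 0 := by
    have : Nontrivial V := Module.nontrivial_of_finrank_pos (R := k) (by rw [C.dim]; norm_num)
    exact exists_ne 0
  obtain ⟨v, hv⟩ := hnt
  have h5 : a ^ 5 = 1 := by
    have hpow : ∀ n : ℕ, ρ (((z : L) : A) ^ n) v = a ^ n • v := by
      intro n
      induction n with
      | zero => simp
      | succ n ih => rw [pow_succ, map_mul, Module.End.mul_apply, ha, map_smul, ih, smul_smul, pow_succ']
    have h2 := hpow 5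
    rw [z5, map_one, Module.End.one_apply] at h2
    have h4 : (a ^ 5 - 1) • v = 0 := by rw [sub_smul, one_smul, ← h2, sub_self]
    exact sub_eq_zero.1 ((smul_eq_zero.1 h4).resolve_right hv)
  have ha1 : a = 1 := by
    calc a = a ^ 5 * a := by rw [h5, one_mul]
      _ = (a ^ 3) ^ 2 := by ring
      _ = 1 := by rw [h3, one_pow]
  have h6 : ((z : L) : A) = 1 := C.faith _ (z : L).2 (by rw [h1, ha1, one_smul]; rfl)
  have h7 : z = 1 := Subtype.ext (Subtype.ext h6)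
  rw [h7, orderOf_one] at hz
  omega

/-- every element of `A` normalizes a conjugate of `⟨x⟩` and centralizes it modulo `L` -/
theorem exists_x : ∃ x ∈ L, x ^ 5 = 1 ∧ x ≠ 1 ∧ (∀ g ∈ L, g * x = x * g → ∀ y ∈ L, g ^ 5 * y = y * g ^ 5) ∧
    ∀ a : A, ∃ l ∈ L, (l * a) * x = x * (l * a) := by
  obtain ⟨x, hx, hx5⟩ := C.lift_ex (by norm_num) C.cop_five A6.x5
  obtain ⟨y, hy⟩ := C.surj y0
  have hyx : y * x * y⁻¹ = x⁻¹ := by
    apply C.lift_inj C.cop_five
    · rw [conj_pow, hx5]; group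
    · rw [inv_pow, hx5, inv_one]
    · rw [map_mul, map_mul, map_inv, map_inv, hx, hy, A6.yx]
  have hx1 : x ≠ 1 := by
    intro h
    apply A6.x1
    rw [← hx, h, map_one]
  have hxA : (x : A) ^ 5 = 1 := congrArg Subtype.val hx5
  have hyA : (y : A) * x * (y : A)⁻¹ = (x : A)⁻¹ := congrArg Subtype.val hyx
  have nosq : ∀ g : A, g * (x : A) * g⁻¹ ≠ (x : A) ^ 2 := by
    intro g hg
    exact no_square C.five C.dim hxA (fun h => hx1 (Subtype.ext (C.faith _ x.2 h))) hg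
  refine ⟨x, x.2, hxA, fun h => hx1 (Subtype.ext h), ?_, ?_⟩
  · intro g hg hgx y hy
    have h1 : (⟨g, hg⟩ : L) * x = x * ⟨g, hg⟩ := Subtype.ext hgx
    have h2 := congrArg π h1
    rw [map_mul, map_mul, hx] at h2
    have h3 := A6.centx _ h2
    rw [← map_pow] at h3
    exact congrArg Subtype.val (C.ker _ h3 ⟨y, hy⟩)
  · intro a
    have hw : a * (x : A) * a⁻¹ ∈ L := C.norm.conj_mem _ x.2 a
    have hw5 : (⟨_, hw⟩ : L) ^ 5 = 1 := by
      apply Subtype.ext
      show (a * (x : A) * a⁻¹) ^ 5 = 1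
      rw [conj_pow, hxA]; group
    have hw1 : π ⟨_, hw⟩ ≠ 1 := by
      intro h
      have h1 : (⟨_, hw⟩ : L) = 1 := C.lift_inj C.cop_five hw5 (one_pow 5) (by rw [h, map_one])
      exact hx1 (Subtype.ext (conj_eq_one_iff.1 (congrArg Subtype.val h1)))
    obtain ⟨g, hg⟩ := A6.exists_conj (π ⟨_, hw⟩) (by rw [← map_pow, hw5, map_one]) hw1
    obtain ⟨l, hl⟩ := C.surj g
    have key : ∀ j : ℕ, g * π ⟨_, hw⟩ * g⁻¹ = x0 ^ j → ((l : A) * a) * x * ((l : A) * a)⁻¹ = (x : A) ^ j := by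
      intro j hj
      have h1 : l * ⟨_, hw⟩ * l⁻¹ = x ^ j := by
        apply C.lift_inj C.cop_five
        · rw [conj_pow, hw5]; group
        · rw [← pow_mul, mul_comm, pow_mul, hx5, one_pow]
        · rw [map_mul, map_mul, map_inv, hl, hj, map_pow, hx]
      have h2 := congrArg Subtype.val h1
      have h3 : (l : A) * (a * x * a⁻¹) * (l : A)⁻¹ = (x : A) ^ j := h2
      rw [← h3]; group
    rcases hg with h | h | h | h
    · have h1 := key 1 (by rw [pow_one]; exact h)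
      rw [pow_one] at h1
      exact ⟨l, l.2, mul_inv_eq_iff_eq_mul.1 h1⟩
    · exact absurd (key 2 h) (nosq _)
    · have h1 := key 3 h
      exfalso
      apply nosq ((y : A) * ((l : A) * a))
      calc (y : A) * ((l : A) * a) * x * ((y : A) * ((l : A) * a))⁻¹ =
          (y : A) * (((l : A) * a) * x * ((l : A) * a)⁻¹) * (y : A)⁻¹ := by group
        _ = ((y : A) * x * (y : A)⁻¹) ^ 3 := by rw [h1, conj_pow]
        _ = (x : A) ^ 2 * ((x : A) ^ 5)⁻¹ := by rw [hyA]; group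
        _ = (x : A) ^ 2 := by rw [hxA]; group
    · have h1 := key 4 h
      refine ⟨y * l, mul_mem y.2 l.2, ?_⟩
      apply mul_inv_eq_iff_eq_mul.1
      calc (y : A) * (l : A) * a * x * ((y : A) * (l : A) * a)⁻¹ =
          (y : A) * (((l : A) * a) * x * ((l : A) * a)⁻¹) * (y : A)⁻¹ := by group
        _ = ((y : A) * x * (y : A)⁻¹) ^ 4 := by rw [h1, conj_pow]
        _ = (x : A) * ((x : A) ^ 5)⁻¹ := by rw [hyA]; group
        _ = (x : A) := by rw [hxA]; group

end Ctx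

end Cfsg.Agent.H173.Hall
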