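import Mathlib
import Cfsg.Agent.Cit.AutQuat

/-!
# S2223 (HALLPRO, C3): a 2-group with a self-centralizing dihedral subgroup of order 8 (helper173)

`final`: `P` has a normal dihedral subgroup `E = ⟨f, e⟩` of order 8 with `C_P(⟨f², e⟩) ≤ E` and an involution `u ∉ E`. Then
`P` has no generalized quaternion subgroup.
-/

set_option autoImplicit false

namespace Cfsg.Agent.H173.Hall

open Subgroup Cfsg.Agent.Cit

theorem final {A : Type*} [Group A] {P E : Subgroup A} {f e u : A}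
    (hn : ∀ p ∈ P, ∀ h ∈ E, p * h * p⁻¹ ∈ E) (hf : f ∈ E) (he : e ∈ E) (f4 : f ^ 4 = 1) (f2 : f ^ 2 ≠ 1)
    (e2 : e * e = 1) (hef : e * f * e⁻¹ = f⁻¹) (hEP : E ≤ P)
    (hE : ∀ h ∈ E, ∃ i : ℤ, h = f ^ i ∨ h = f ^ i * e)
    (hC : ∀ p ∈ P, p * f ^ 2 = f ^ 2 * p → p * e = e * p → p ∈ E)
    (hu : u ∈ P) (hu1 : u ∉ E) (hu2 : u * u = 1) {Q : Subgroup A} (hQP : Q ≤ P) (hQ : AutQuat.IsQ Q) : False := by
  have hf2 : Fact (Nat.Prime 2) := ⟨Nat.prime_two⟩
  have of : orderOf f = 4 := by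
    have := orderOf_eq_prime_pow (p := 2) (n := 1) (x := f) (by simpa using f2) (by simpa using f4)
    simpa using this
  have z1 : ∀ i : ℤ, f ^ i = 1 ↔ (4 : ℤ) ∣ i := by
    intro i
    rw [← orderOf_dvd_iff_zpow_eq_one, of]
    rfl
  have zz : ∀ i j : ℤ, f ^ i = f ^ j ↔ (4 : ℤ) ∣ i - j := by
    intro i j
    rw [← z1, zpow_sub, mul_inv_eq_one]
  have fe : ∀ i : ℤ, e * f ^ i = f ^ (-i) * e := by
    intro i
    have h1 : e * f ^ i * e⁻¹ = f ^ (-i) := by
      rw [← conj_zpow, hef, inv_zpow, zpow_neg]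
    rw [← h1]; group
  have ei : e⁻¹ = e := inv_eq_of_mul_eq_one_right e2
  have fee : ∀ i : ℤ, (f ^ i * e) * (f ^ i * e) = 1 := by
    intro i
    calc (f ^ i * e) * (f ^ i * e) = f ^ i * (e * f ^ i) * e := by group
      _ = f ^ i * (f ^ (-i) * e) * e := by rw [fe]
      _ = f ^ i * f ^ (-i) * (e * e) := by group
      _ = 1 := by rw [e2]; group
  have enf : ∀ i : ℤ, e ≠ f ^ i := by
    intro i h
    apply f2
    have h1 : e * f * e⁻¹ = f := by rw [h]; group
    rw [hef] at h1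
    rw [pow_two]
    nth_rewrite 1 [← h1]
    group
  -- the action on `f`
  have sa : ∀ p ∈ P, ∃ s : ℤ, (s = 1 ∨ s = -1) ∧ ∀ i : ℤ, p * f ^ i * p⁻¹ = f ^ (s * i) := by
    intro p hp
    obtain ⟨i, hi | hi⟩ := hE _ (hn p hp f hf)
    · have h1 : p * f ^ (2 : ℤ) * p⁻¹ = f ^ (2 * i) := by
        rw [← conj_zpow, hi, ← zpow_mul, mul_comm]
      have h2 : ¬ (4 : ℤ) ∣ 2 * i := by
        intro h
        rw [(z1 _).2 h] at h1
        apply f2
        have : f ^ (2 : ℤ) = 1 := by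
          calc f ^ (2 : ℤ) = p⁻¹ * (p * f ^ (2 : ℤ) * p⁻¹) * p := by group
            _ = 1 := by rw [h1]; group
        simpa using this
      have h3 : ∃ s : ℤ, (s = 1 ∨ s = -1) ∧ (4 : ℤ) ∣ i - s := by
        have : i % 4 = 1 ∨ i % 4 = 3 := by omega
        rcases this with h | h
        · exact ⟨1, Or.inl rfl, by omega⟩
        · exact ⟨-1, Or.inr rfl, by omega⟩
      obtain ⟨s, hs, hs'⟩ := h3
      refine ⟨s, hs, fun j => ?_⟩
      rw [← conj_zpow, hi, (zz _ _).2 hs', ← zpow_mul]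
    · exfalso
      apply f2
      have h1 : (p * f * p⁻¹) * (p * f * p⁻¹) = 1 := by rw [hi, fee]
      calc f ^ 2 = p⁻¹ * ((p * f * p⁻¹) * (p * f * p⁻¹)) * p := by rw [pow_two]; group
        _ = 1 := by rw [h1]; group
  have sb : ∀ p ∈ P, p * f ^ 2 = f ^ 2 * p := by
    intro p hp
    obtain ⟨s, hs, h⟩ := sa p hp
    have h1 := h 2
    have h2 : f ^ (s * 2) = f ^ (2 : ℤ) := by
      rw [zz]
      rcases hs with rfl | rfl <;> norm_num
    rw [h2] at h1
    have h3 : p * f ^ (2 : ℤ) = f ^ (2 : ℤ) * p := mul_inv_eq_iff_eq_mul.1 h1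
    simpa using h3
  -- the action on `e`
  have sc : ∀ p ∈ P, ∃ i : ℤ, p * e * p⁻¹ = f ^ i * e := by
    intro p hp
    obtain ⟨i, hi | hi⟩ := hE _ (hn p hp e he)
    · exfalso
      have h1 : f ^ (i * 2) = 1 := by
        rw [zpow_mul, ← hi, zpow_ofNat, conj_pow, pow_two, e2]; group
      rw [z1] at h1
      obtain ⟨s, hs, h⟩ := sa p hp
      have h2 : f ^ i = f ^ (s * i) := by
        rw [zz]
        rcases hs with rfl | rfl
        · rw [one_mul, sub_self]; exact dvd_zero _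
        · omega
      rw [h2, ← h i] at hi
      exact enf i (mul_left_cancel (mul_right_cancel hi))
    · exact ⟨i, hi⟩
  have sd : ∀ p ∈ P, ∀ i : ℤ, p * e * p⁻¹ = f ^ i * e → (2 : ℤ) ∣ i → p ∈ E := by
    intro p hp i hi h2
    have h4 : (4 : ℤ) ∣ i ∨ (4 : ℤ) ∣ i - 2 := by omega
    rcases h4 with h4 | h4
    · rw [(z1 i).2 h4, one_mul] at hi
      exact hC p hp (sb p hp) (mul_inv_eq_iff_eq_mul.1 hi)
    · rw [(zz i 2).2 h4] at hi
      have h5 : f * p ∈ E := by
        refine hC _ (mul_mem (hEP hf) hp) (sb _ (mul_mem (hEP hf) hp)) ?_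
        have h6 : f * p * e * (f * p)⁻¹ = e := by
          calc f * p * e * (f * p)⁻¹ = f * (p * e * p⁻¹) * f⁻¹ := by group
            _ = f * (f ^ (2 : ℤ) * e) * f⁻¹ := by rw [hi]
            _ = f ^ (3 : ℤ) * (e * f ^ (-1 : ℤ)) := by group
            _ = f ^ (3 : ℤ) * (f ^ (- -1 : ℤ) * e) := by rw [fe]
            _ = f ^ (4 : ℤ) * e := by group
            _ = e := by rw [(z1 4).2 (dvd_refl _), one_mul]
        exact mul_inv_eq_iff_eq_mul.1 h6
      have h6 := mul_mem (inv_mem hf) h5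
      rwa [inv_mul_cancel_left] at h6
  -- the involution `u`
  obtain ⟨m, hm⟩ := sc u hu
  have hmo : ¬ (2 : ℤ) ∣ m := fun h => hu1 (sd u hu m hm h)
  have ui : u⁻¹ = u := inv_eq_of_mul_eq_one_right hu2
  have hinv : ∀ i : ℤ, u * f ^ i * u⁻¹ = f ^ (-i) := by
    obtain ⟨s, hs, h⟩ := sa u hu
    rcases hs with rfl | rfl
    · exfalso
      have h1 : e = f ^ (2 * m) * e := by
        calc e = (u * u) * e * (u * u)⁻¹ := by rw [hu2]; group
          _ = u * (u * e * u⁻¹) * u⁻¹ := by group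
          _ = u * (f ^ m * e) * u⁻¹ := by rw [hm]
          _ = (u * f ^ m * u⁻¹) * (u * e * u⁻¹) := by group
          _ = f ^ m * (f ^ m * e) := by rw [h, hm, one_mul]
          _ = f ^ (2 * m) * e := by rw [two_mul, zpow_add]; group
      have h2 : f ^ (2 * m) = 1 := by
        have := h1.symm
        rwa [mul_eq_right] at this
      rw [z1] at h2
      omega
    · intro i
      rw [h, neg_one_mul]
  -- no element of order 4 outside `E`
  have key : Q ≤ E := by
    apply hQ.le_of_four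
    intro x hxQ hx4
    by_contra hxE
    have hxP := hQP hxQ
    obtain ⟨n, hn'⟩ := sc x hxP
    have hno : ¬ (2 : ℤ) ∣ n := fun h => hxE (sd x hxP n hn' h)
    obtain ⟨s, hs, h⟩ := sa x hxP
    have h1 : x * u ∈ E := by
      refine sd _ (mul_mem hxP hu) (s * m + n) ?_ ?_
      · calc x * u * e * (x * u)⁻¹ = x * (u * e * u⁻¹) * x⁻¹ := by group
          _ = x * (f ^ m * e) * x⁻¹ := by rw [hm]
          _ = (x * f ^ m * x⁻¹) * (x * e * x⁻¹) := by group
          _ = f ^ (s * m) * (f ^ n * e) := by rw [h, hn']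
          _ = f ^ (s * m + n) * e := by rw [zpow_add]; group
      · rcases hs with rfl | rfl <;> omega
    have hx : x = (x * u) * u := by rw [mul_assoc, hu2, mul_one]
    have hx2 : x ^ 2 ≠ 1 := by
      intro h2
      have := orderOf_dvd_of_pow_eq_one h2
      rw [hx4] at this
      norm_num at this
    have hx44 : x ^ 4 = 1 := by rw [← hx4, pow_orderOf_eq_one]
    obtain ⟨i, hi | hi⟩ := hE _ h1
    · apply hx2
      rw [hx, hi, pow_two]
      calc f ^ i * u * (f ^ i * u) = f ^ i * (u * f ^ i * u⁻¹) * (u * u) := by group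
        _ = 1 := by rw [hinv, hu2]; group
    · have h2 : x ^ 2 = f ^ (2 * i - m) := by
        rw [hx, hi, pow_two]
        calc f ^ i * e * u * (f ^ i * e * u) = f ^ i * e * (u * f ^ i * u⁻¹) * (u * e * u⁻¹) * (u * u) := by group
          _ = f ^ i * e * f ^ (-i) * (f ^ m * e) := by rw [hinv, hm, hu2, mul_one]
          _ = f ^ i * (e * f ^ (m - i)) * e := by
            rw [show m - i = -i + m by ring, zpow_add]; group
          _ = f ^ i * (f ^ (-(m - i)) * e) * e := by rw [fe]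
          _ = f ^ i * f ^ (-(m - i)) * (e * e) := by group
          _ = f ^ (2 * i - m) := by
            rw [e2, mul_one, ← zpow_add]; congr 1; ring
      have h3 : x ^ 4 = f ^ ((2 * i - m) * 2) := by
        rw [show 4 = 2 * 2 by norm_num, pow_mul, h2, zpow_mul, zpow_ofNat]
      rw [hx44] at h3
      have h4 := (z1 _).1 h3.symm
      omega
  -- the contradiction
  obtain ⟨z, hz, hz2, hzu⟩ := hQ.exists_inv
  obtain ⟨x, hx, hx4⟩ := hQ.exists_four
  have hxf : ∃ i : ℤ, x = f ^ i ∧ ¬ (2 : ℤ) ∣ i := by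
    have hx2 : x ^ 2 ≠ 1 := by
      intro h2
      have := orderOf_dvd_of_pow_eq_one h2
      rw [hx4] at this
      norm_num at this
    obtain ⟨i, hi | hi⟩ := hE _ (key hx)
    · refine ⟨i, hi, fun h => hx2 ?_⟩
      rw [hi, ← zpow_natCast, ← zpow_mul, z1]
      push_cast
      omega
    · exfalso
      apply hx2
      rw [hi, pow_two, fee]
  obtain ⟨i, hi, hio⟩ := hxf
  obtain ⟨y, hy, hyx⟩ := hQ.exists_inverts x hx
  obtain ⟨j, hj | hj⟩ := hE _ (key hy)
  · rw [hi, hj] at hyx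
    have h1 : f ^ j * f ^ i * (f ^ j)⁻¹ = f ^ i := by group
    rw [h1, ← zpow_neg, zz] at hyx
    omega
  · have hy2 : y * y = 1 := by rw [hj, fee]
    have hy1 : y ≠ 1 := by
      intro h
      rw [h, one_mul, inv_one, mul_one] at hyx
      rw [hi, ← zpow_neg, zz] at hyx
      omega
    have h1 := hzu y hy (orderOf_eq_prime (by rw [pow_two, hy2]) hy1)
    have h2 : orderOf (x ^ 2) = 2 := by
      apply orderOf_eq_prime
      · rw [← pow_mul, show 2 * 2 = 4 by norm_num, ← hx4, pow_orderOf_eq_one]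
      · intro h
        have := orderOf_dvd_of_pow_eq_one h
        rw [hx4] at this
        norm_num at this
    have h3 := hzu (x ^ 2) (pow_mem hx 2) h2
    rw [h1, ← h3] at hyx
    have h4 : x ^ 2 * x * (x ^ 2)⁻¹ = x := by group
    rw [h4, hi, ← zpow_neg, zz] at hyx
    omega

end Cfsg.Agent.H173.Hall
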