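import Cfsg.Agent.H173.Hall.Core

/-!
# S2223 (HALLPRO, C3): `A₆` in dimension 3, end of the argument (helper173)
-/

set_option autoImplicit false
set_option linter.unusedSectionVars false

namespace Cfsg.Agent.H173.Hall

open Subgroup Cfsg.Agent.Cit A6

variable {k : Type*} [Field k] [IsAlgClosed k] {V : Type*} [AddCommGroup V] [Module k V] [FiniteDimensional k V]
  {A : Type*} [Group A] [Finite A]

namespace Ctx

variable {ρ : A →* (V →ₗ[k] V)} {L : Subgroup A} {π : L →* AA} {P : Sylow 2 A} (C : Ctx ρ L π P)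

include C

theorem card_inf : Nat.card ((P : Subgroup A) ⊓ L : Subgroup A) ∣ 8 := by
  have hf : Fact (Nat.Prime 2) := ⟨Nat.prime_two⟩
  obtain ⟨n, hn⟩ := IsPGroup.iff_card.1 (P.2.to_le (inf_le_left : (P : Subgroup A) ⊓ L ≤ P))
  have h1 : Nat.card ((P : Subgroup A) ⊓ L : Subgroup A) ∣ Nat.card L := card_dvd_of_le inf_le_right
  have h2 : Nat.card L = Nat.card π.ker * 360 := by
    rw [← A6.card_AA, ← π.ker.card_mul_index, index_ker, MonoidHom.range_eq_top.2 C.surj, card_top]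
  have h3 : Nat.card π.ker ∣ Nat.card (center L) :=
    card_dvd_of_le fun x hx => C.mem_center (MonoidHom.mem_ker.1 hx)
  have h4 : Nat.card L ∣ Nat.card (center L) * 45 * 8 := by
    rw [h2, mul_assoc]
    exact mul_dvd_mul_right h3 _
  have h5 := h1.trans h4
  rw [hn] at h5 ⊢
  refine Nat.Coprime.dvd_of_dvd_mul_left ?_ h5
  apply Nat.Coprime.pow_left
  rw [Nat.Prime.coprime_iff_not_dvd Nat.prime_two, Nat.prime_two.dvd_mul, not_or]
  exact ⟨C.odd_center, by norm_num⟩

theorem mem_inf_cases {f e b : A} (h : FE L f e b) (hf : f ∈ (P : Subgroup A)) (he : e ∈ (P : Subgroup A)) :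
    ∀ y ∈ (P : Subgroup A) ⊓ L, ∃ i : ℤ, y = f ^ i ∨ y = f ^ i * e := by
  have hf2 : Fact (Nat.Prime 2) := ⟨Nat.prime_two⟩
  set E := (P : Subgroup A) ⊓ L with hE
  have of : orderOf f = 4 := by
    have := orderOf_eq_prime_pow (p := 2) (n := 1) (x := f) (by simpa using h.f2) (by simpa using h.f4)
    simpa using this
  have hDE : zpowers f ≤ E := by rw [zpowers_le]; exact ⟨hf, h.fL⟩
  have heE : e ∈ E := ⟨he, h.eL⟩
  have heD : e ∉ zpowers f := by
    rintro ⟨i, hi⟩
    have hi' : f ^ i = e := hi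
    apply h.f2
    have h1 : e * f * e⁻¹ = f := by rw [← hi']; group
    rw [h.ef] at h1
    rw [pow_two]
    nth_rewrite 1 [← h1]
    group
  have hcard : Nat.card (zpowers f) * (zpowers f).relIndex E = Nat.card E := by
    rw [Subgroup.relIndex, ← ((zpowers f).subgroupOf E).card_mul_index,
      Nat.card_congr (Subgroup.subgroupOfEquivOfLe hDE).toEquiv]
  rw [Nat.card_zpowers, of] at hcard
  have h8 := C.card_inf
  have hri : ((zpowers f).subgroupOf E).index = 2 := by
    have h1 : (zpowers f).relIndex E ∣ 2 := by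
      rw [← hE, ← hcard] at h8
      exact Nat.dvd_of_mul_dvd_mul_left (by norm_num : 0 < 4) h8
    rcases (Nat.dvd_prime Nat.prime_two).1 h1 with h2 | h2
    · exact absurd (relIndex_eq_one.1 h2 heE) heD
    · exact h2
  intro y hy
  by_cases hyD : y ∈ zpowers f
  · obtain ⟨i, hi⟩ := hyD
    exact ⟨i, Or.inl hi.symm⟩
  · have h1 := (mul_mem_iff_of_index_two hri (a := ⟨y, hy⟩) (b := ⟨e, heE⟩)).2 (by
      rw [mem_subgroupOf, mem_subgroupOf]
      exact ⟨fun h => absurd h hyD, fun h => absurd h heD⟩)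
    obtain ⟨i, hi⟩ := mem_subgroupOf.1 h1
    have hi' : f ^ i = y * e := hi
    refine ⟨i, Or.inr ?_⟩
    rw [hi', mul_assoc, h.four.ee, mul_one]

/-- the involution `u` -/
theorem exists_u : ∃ u ∈ (P : Subgroup A), u ∉ (P : Subgroup A) ⊓ L ∧ u * u = 1 := by
  have hf2 : Fact (Nat.Prime 2) := ⟨Nat.prime_two⟩
  have hn := C.norm
  obtain ⟨p, hp, hpL⟩ : ∃ p ∈ (P : Subgroup A), p ∉ L := by
    by_contra hcon
    push Not at hcon
    have h1 : (P : Subgroup A) ⊓ L = P := inf_eq_left.2 hcon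
    have h2 := C.card_inf
    rw [h1] at h2
    have h3 := Nat.le_of_dvd (by norm_num) h2
    have h4 := C.card
    have h5 : Nat.card P = Nat.card (P : Subgroup A) := rfl
    omega
  obtain ⟨x, hxL, hx5, hx1, hxc, hxa⟩ := C.exists_x
  obtain ⟨l, hl, hc⟩ := hxa p
  set c := l * p with hcd
  have hcL : c ∉ L := fun h => hpL (by
    have := mul_mem (inv_mem hl) h
    rwa [hcd, inv_mul_cancel_left] at this)
  obtain ⟨N, hN⟩ := IsPGroup.iff_card.1 P.2
  have hcN : c ^ 2 ^ N ∈ L := by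
    have h1 : (QuotientGroup.mk' L c) = QuotientGroup.mk' L p := by
      rw [hcd, map_mul]
      have : QuotientGroup.mk' L l = 1 := (QuotientGroup.eq_one_iff l).2 hl
      rw [this, one_mul]
    have h2 : QuotientGroup.mk' L (c ^ 2 ^ N) = 1 := by
      rw [map_pow, h1, ← map_pow]
      have h3 : p ^ 2 ^ N = 1 := by
        have := pow_card_eq_one' (x := (⟨p, hp⟩ : (P : Subgroup A)))
        rw [hN] at this
        exact congrArg Subtype.val this
      rw [h3, map_one]
    exact (QuotientGroup.eq_one_iff _).1 h2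
  have hcx : Commute c x := hc
  have hd : (c ^ 2 ^ N) ^ (5 * Nat.card (center L)) = 1 := by
    have h1 := hxc _ hcN (hcx.pow_left _).eq
    have h2 : (⟨c ^ 2 ^ N, hcN⟩ : L) ^ 5 ∈ center L := by
      rw [mem_center_iff]
      intro y
      exact Subtype.ext (h1 y y.2).symm
    have h3 := pow_card_eq_one' (x := (⟨_, h2⟩ : center L))
    have h4 := congrArg (fun t : center L => ((t : L) : A)) h3
    rw [pow_mul]
    exact h4
  set q := 5 * Nat.card (center L) with hq
  have hqo : Nat.Coprime (2 ^ N) q := by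
    apply Nat.Coprime.pow_left
    rw [Nat.Prime.coprime_iff_not_dvd Nat.prime_two, hq, Nat.prime_two.dvd_mul, not_or]
    exact ⟨by norm_num, C.odd_center⟩
  set w := c ^ q with hw
  have hwN : w ^ 2 ^ N = 1 := by
    rw [hw, ← pow_mul, mul_comm, pow_mul, hd]
  have hwL : w ∉ L := by
    intro h
    apply hcL
    have h1 : orderOf (QuotientGroup.mk' L c) ∣ q := by
      apply orderOf_dvd_of_pow_eq_one
      rw [← map_pow]
      exact (QuotientGroup.eq_one_iff _).2 h
    have h2 : orderOf (QuotientGroup.mk' L c) ∣ 2 ^ N := by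
      apply orderOf_dvd_of_pow_eq_one
      rw [← map_pow]
      exact (QuotientGroup.eq_one_iff _).2 hcN
    have h3 := Nat.dvd_gcd h2 h1
    rw [hqo.gcd_eq_one, Nat.dvd_one, orderOf_eq_one_iff] at h3
    exact (QuotientGroup.eq_one_iff _).1 h3
  have hwx : Commute w x := hcx.pow_left _
  obtain ⟨t, -, ht⟩ := (Nat.dvd_prime_pow Nat.prime_two).1 (orderOf_dvd_of_pow_eq_one hwN)
  have ht0 : t ≠ 0 := by
    rintro rfl
    rw [pow_zero, orderOf_eq_one_iff] at ht
    rw [ht] at hwL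
    exact hwL (one_mem L)
  obtain ⟨s, rfl⟩ := Nat.exists_eq_succ_of_ne_zero ht0
  set u := w ^ 2 ^ s with hu
  have hu2 : u * u = 1 := by
    rw [hu, ← pow_add, ← two_mul, ← pow_succ', ← Nat.succ_eq_add_one, ← ht, pow_orderOf_eq_one]
  have hu1 : u ≠ 1 := by
    intro h
    have h1 := orderOf_dvd_of_pow_eq_one h
    rw [ht] at h1
    have h2 := (Nat.pow_dvd_pow_iff_le_right (by norm_num : 1 < 2)).1 h1
    omega
  have hux : Commute u x := hwx.pow_left _
  have huL : u ∉ L := by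
    intro h
    apply hu1
    apply C.two_cent (n := 1)
    · rw [pow_one, pow_two, hu2]
    · intro y hy
      have h1 := hxc u h hux.eq y hy
      have h2 : u ^ 5 = u := by
        calc u ^ 5 = (u * u) * (u * u) * u := by
              simp only [pow_succ, pow_zero, one_mul, mul_assoc]
          _ = u := by rw [hu2, one_mul, one_mul]
      rwa [h2] at h1
  obtain ⟨g, hg⟩ := exists_conj_syl' P (a := u) (n := 1) (by rw [pow_one, pow_two, hu2])
  refine ⟨g * u * g⁻¹, hg, ?_, ?_⟩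
  · rintro ⟨-, h⟩
    apply huL
    have := C.norm.conj_mem _ h g⁻¹
    rw [inv_inv] at this
    have e : g⁻¹ * (g * u * g⁻¹) * g = u := by group
    rwa [e] at this
  · calc g * u * g⁻¹ * (g * u * g⁻¹) = g * (u * u) * g⁻¹ := by group
      _ = 1 := by rw [hu2]; group

/-- `C_P(⟨f², e⟩) ≤ L` -/
theorem cent_four {f e b : A} (h : FE L f e b) (hfP : f ∈ (P : Subgroup A)) (heP : e ∈ (P : Subgroup A)) {c : A}
    (hc : c ∈ (P : Subgroup A)) (hcz : c * f ^ 2 = f ^ 2 * c) (hce : c * e = e * c) : c ∈ L := by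
  have hf2 : Fact (Nat.Prime 2) := ⟨Nat.prime_two⟩
  have hn := C.norm
  obtain ⟨v₁, v₂, v₃, B⟩ := C.exists_bas h
  set z := f ^ 2 with hz
  have hzL : z ∈ L := pow_mem h.fL 2
  have hzP : z ∈ (P : Subgroup A) := pow_mem hfP 2
  have F : Four z e b := h.four
  have r1 : b * (z * e) * b⁻¹ = z := by
    calc b * (z * e) * b⁻¹ = (b * z * b⁻¹) * (b * e * b⁻¹) := by group
      _ = e * (z * e) := by rw [F.bz, F.be]
      _ = z * (e * e) := by rw [← mul_assoc, ← F.ze, mul_assoc]
      _ = z := by rw [F.ee, mul_one]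
  have r2 : b⁻¹ * z * b = z * e := by
    calc b⁻¹ * z * b = b⁻¹ * (b * (z * e) * b⁻¹) * b := by rw [r1]
      _ = z * e := by group
  have r3 : b⁻¹ * e * b = z := by
    calc b⁻¹ * e * b = b⁻¹ * (b * z * b⁻¹) * b := by rw [F.bz]
      _ = z := by group
  have hcze : c * (z * e) = (z * e) * c := by
    rw [← mul_assoc, hcz, mul_assoc, hce, mul_assoc]
  -- `c' = b c b⁻¹`
  set c' := b * c * b⁻¹ with hc'
  have hc'z : c' * z = z * c' := by
    calc c' * z = b * (c * (b⁻¹ * z * b)) * b⁻¹ := by rw [hc']; group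
      _ = b * ((b⁻¹ * z * b) * c) * b⁻¹ := by rw [r2, hcze]
      _ = z * c' := by rw [hc']; group
  have hc'e : c' * e = e * c' := by
    calc c' * e = b * (c * (b⁻¹ * e * b)) * b⁻¹ := by rw [hc']; group
      _ = b * ((b⁻¹ * e * b) * c) * b⁻¹ := by rw [r3, hcz]
      _ = e * c' := by rw [hc']; group
  have hcc : c * c' = c' * c := by
    have h1 := B.comm_of_comm C.two hcz hce hc'z hc'e
    have hl : b * (c * b⁻¹ * c⁻¹) ∈ L := mul_mem h.bL (C.norm.conj_mem _ (inv_mem h.bL) c)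
    have h2 : c * c' * (c' * c)⁻¹ ∈ L := by
      have e1 : c * c' * (c' * c)⁻¹ = c * (b * (c * b⁻¹ * c⁻¹)) * c⁻¹ * (b * (c * b⁻¹ * c⁻¹))⁻¹ := by
        rw [hc']; group
      rw [e1]
      exact mul_mem (C.norm.conj_mem _ hl c) (inv_mem hl)
    have h3 : c * c' * (c' * c)⁻¹ = 1 := by
      apply C.faith _ h2
      rw [map_mul, h1, ← map_mul, mul_inv_cancel, map_one]
    exact mul_inv_eq_one.1 h3
  obtain ⟨N, hN⟩ := IsPGroup.iff_card.1 P.2
  have hc2 : c ^ 2 ^ (N + 1) = 1 := by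
    have := pow_card_eq_one' (x := (⟨c, hc⟩ : (P : Subgroup A)))
    rw [hN] at this
    have h1 : c ^ 2 ^ N = 1 := congrArg Subtype.val this
    rw [pow_succ, pow_mul, h1, one_pow]
  have hc'2 : c' ^ 2 ^ (N + 1) = 1 := by
    rw [hc', conj_pow, hc2]; group
  -- `d = [c, b]`
  set d := c * b * c⁻¹ * b⁻¹ with hd
  have hdc : d = c * c'⁻¹ := by rw [hd, hc']; group
  have hd2 : d ^ 2 ^ (N + 1) = 1 := by
    rw [hdc, (show Commute c c'⁻¹ from (show Commute c c' from hcc).inv_right).mul_pow, hc2, inv_pow, hc'2, one_mul,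
      inv_one]
  have hdL : d ∈ L := by
    have e1 : d = (c * b * c⁻¹) * b⁻¹ := rfl
    rw [e1]
    exact mul_mem (C.norm.conj_mem _ h.bL c) (inv_mem h.bL)
  have hdz : d * z = z * d := by
    rw [hdc]
    exact ((show Commute c z from hcz).mul_left (show Commute c'⁻¹ z from (show Commute c' z from hc'z).inv_left)).eq
  have hde : d * e = e * d := by
    rw [hdc]
    exact ((show Commute c e from hce).mul_left (show Commute c'⁻¹ e from (show Commute c' e from hc'e).inv_left)).eq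
  obtain ⟨v, hv, hvc⟩ := h.cen d hdL hdz hde
  have hv : v = 1 ∨ v = z ∨ v = e ∨ v = z * e := hv
  have hvd : Commute v d := by
    rcases hv with h | h | h | h
    · rw [h]; exact Commute.one_left d
    · rw [h]; exact hdz.symm
    · rw [h]; exact hde.symm
    · rw [h]; exact (show Commute z d from hdz.symm).mul_left (show Commute e d from hde.symm)
  have hv2 : v * v = 1 := by
    rcases hv with h | h | h | h
    · rw [h]; exact one_mul 1
    · rw [h]; exact F.zz
    · rw [h]; exact F.ee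
    · rw [h]
      calc z * e * (z * e) = z * (e * z) * e := by simp only [mul_assoc]
        _ = z * (z * e) * e := by rw [F.ze]
        _ = (z * z) * (e * e) := by simp only [mul_assoc]
        _ = 1 := by rw [F.zz, F.ee, one_mul]
  have hdv : d = v := by
    have h1 : (d * v⁻¹) ^ 2 ^ (N + 1) = 1 := by
      rw [(show Commute d v⁻¹ from hvd.symm.inv_right).mul_pow, hd2, one_mul, inv_pow, pow_succ', pow_mul, pow_two, hv2,
        one_pow, inv_one]
    have h2 := C.two_cent h1 hvc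
    exact mul_inv_eq_one.1 h2
  -- `v' ∈ ⟨z, e⟩` with `[v', b] = v`
  obtain ⟨v', hv'L, hv'P, hv'z, hv'e, hv'b⟩ : ∃ v' : A, v' ∈ L ∧ v' ∈ (P : Subgroup A) ∧ Commute v' z ∧ Commute v' e ∧
      v' * b * v'⁻¹ = v * b := by
    have zi : z⁻¹ = z := inv_eq_of_mul_eq_one_right F.zz
    have ei : e⁻¹ = e := inv_eq_of_mul_eq_one_right F.ee
    have key : ∀ {a a' : A}, b * a * b⁻¹ = a' → a * b * a⁻¹ = a * (a'⁻¹) * b := by
      rintro a _ rfl; group
    have hzc : Commute z e := F.ze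
    rcases hv with hv | hv | hv | hv
    · exact ⟨1, one_mem _, one_mem _, Commute.one_left _, Commute.one_left _, by rw [hv]; group⟩
    · refine ⟨e, h.eL, heP, hzc.symm, Commute.refl e, ?_⟩
      rw [key F.be, mul_inv_rev, ei, zi, ← mul_assoc, F.ee, one_mul, hv]
    · refine ⟨z * e, mul_mem hzL h.eL, mul_mem hzP heP, (Commute.refl z).mul_left hzc.symm,
        hzc.mul_left (Commute.refl e), ?_⟩
      rw [key r1, zi, F.ze, mul_assoc e z z, F.zz, mul_one, hv]
    · refine ⟨z, hzL, hzP, Commute.refl z, hzc, ?_⟩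
      rw [key F.bz, ei, hv]
  -- `c₁ = v'⁻¹ c` is scalar
  have hc1z : (v'⁻¹ * c) * z = z * (v'⁻¹ * c) := (hv'z.inv_left.mul_left (show Commute c z from hcz)).eq
  have hc1e : (v'⁻¹ * c) * e = e * (v'⁻¹ * c) := (hv'e.inv_left.mul_left (show Commute c e from hce)).eq
  have hc1b : (v'⁻¹ * c) * b = b * (v'⁻¹ * c) := by
    have h1 : c * b * c⁻¹ = v * b := by
      rw [← hdv, hd]; group
    have h2 : (v'⁻¹ * c) * b * (v'⁻¹ * c)⁻¹ = b := by
      calc (v'⁻¹ * c) * b * (v'⁻¹ * c)⁻¹ = v'⁻¹ * (c * b * c⁻¹) * v' := by group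
        _ = v'⁻¹ * (v' * b * v'⁻¹) * v' := by rw [h1, hv'b]
        _ = b := by group
    exact mul_inv_eq_iff_eq_mul.1 h2
  obtain ⟨a, ha⟩ := B.scalar_of_comm C.two hc1z hc1e hc1b
  have h1 := C.cent _ ((P : Subgroup A).mul_mem ((P : Subgroup A).inv_mem hv'P) hc) (C.comm_of_scalar ha)
  rw [inv_mul_eq_one] at h1
  rw [← h1]
  exact hv'L

/-- **`A₆` in dimension 3.** -/
theorem core {Q : Subgroup A} (hQP : Q ≤ P) (hQ : AutQuat.IsQ Q) : False := by
  obtain ⟨f, e, b, h, hf, he⟩ := C.exists_FE'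
  obtain ⟨u, hu, huE, hu2⟩ := C.exists_u
  refine final (P := P) (E := (P : Subgroup A) ⊓ L) (f := f) (e := e) (u := u) ?_ ⟨hf, h.fL⟩ ⟨he, h.eL⟩ h.f4 h.f2
    h.four.ee h.ef inf_le_left (C.mem_inf_cases h hf he) ?_ hu huE hu2 hQP hQ
  · intro p hp x hx
    have hx' := mem_inf.1 hx
    exact mem_inf.2 ⟨mul_mem (mul_mem hp hx'.1) (inv_mem hp), C.norm.conj_mem x hx'.2 p⟩
  · intro p hp h1 h2
    exact mem_inf.2 ⟨hp, C.cent_four h hf he hp h1 h2⟩

end Ctx

end Cfsg.Agent.H173.Hall
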