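import Cfsg.Agent.H173.Hall.Fin
import Cfsg.Agent.H125.Hall.Defs
import Cfsg.Agent.SignalizersComponents.PCompCore

/-!
# S2223 (HALLPRO, C3): no `A₆` in dimension 3 (helper173)

`no_A6`: the stub of tools/plans/S2223_stubs.lean.txt; reduction to `Ctx.core` (the subgroup `P L` on `[V, L]`).
-/

set_option autoImplicit false
set_option linter.unusedSectionVars false

namespace Cfsg.Agent.H173.Hall

open Subgroup Cfsg.Agent.Cit A6 Cfsg.Agent.H125.Hall

section gen

variable {k : Type*} [Field k] {V : Type*} [AddCommGroup V] [Module k V] {A : Type*} [Group A]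

theorem sub_mem_cm (ρ : A →* (V →ₗ[k] V)) {L : Subgroup A} {x : A} (hx : x ∈ L) (v : V) : ρ x v - v ∈ cm ρ L := by
  have h1 : mv ρ x ≤ cm ρ L := le_iSup₂_of_le x hx le_rfl
  exact h1 ⟨v, rfl⟩

theorem cm_inv (ρ : A →* (V →ₗ[k] V)) {L : Subgroup A} {a : A} (ha : ∀ x ∈ L, a * x * a⁻¹ ∈ L) :
    ∀ v ∈ cm ρ L, ρ a v ∈ cm ρ L := by
  have h1 : cm ρ L ≤ (cm ρ L).comap (ρ a) := by
    refine iSup₂_le fun x hx => ?_
    rintro _ ⟨v, rfl⟩
    show ρ a ((ρ x - 1) v) ∈ cm ρ L
    have h2 := sub_mem_cm ρ (ha x hx) (ρ a v)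
    have h3 : ρ (a * x * a⁻¹) (ρ a v) = ρ a (ρ x v) := by
      rw [← Module.End.mul_apply, ← map_mul, ← Module.End.mul_apply, ← map_mul]
      congr 2
      group
    rw [h3, ← map_sub] at h2
    exact h2
  exact fun v hv => h1 hv

/-- an element of `L` which is trivial on `[V, L]` is trivial on `V` -/
theorem eq_one_of_cm [Finite A] (ρ : A →* (V →ₗ[k] V)) {L : Subgroup A} (hc : (Nat.card L : k) ≠ 0) {x : A} (hx : x ∈ L)
    (h : ∀ v ∈ cm ρ L, ρ x v = v) : ρ x = 1 := by
  classical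
  have : Fintype L := Fintype.ofFinite _
  ext v
  rw [Module.End.one_apply]
  have h1 : ρ x (∑ l : L, ρ (l : A) v) = ∑ l : L, ρ (l : A) v := by
    rw [map_sum]
    refine Fintype.sum_equiv (Equiv.mulLeft (⟨x, hx⟩ : L)) _ _ fun l => ?_
    rw [← Module.End.mul_apply, ← map_mul]
    rfl
  have h2 : ρ x (∑ l : L, (ρ (l : A) v - v)) = ∑ l : L, (ρ (l : A) v - v) :=
    h _ (Submodule.sum_mem _ fun l _ => sub_mem_cm ρ l.2 v)
  have h3 : (Nat.card L : k) • v = (∑ l : L, ρ (l : A) v) - ∑ l : L, (ρ (l : A) v - v) := by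
    rw [← Finset.sum_sub_distrib]
    simp only [sub_sub_cancel]
    rw [Finset.sum_const, Finset.card_univ, ← Nat.card_eq_fintype_card, Nat.cast_smul_eq_nsmul]
  have h4 : (Nat.card L : k) • (ρ x v - v) = 0 := by
    rw [smul_sub, ← map_smul, h3, map_sub, h1, h2, sub_self]
  exact sub_eq_zero.1 ((smul_eq_zero.1 h4).resolve_left hc)

/-- the restriction to an invariant subspace -/
def res (ρ : A →* (V →ₗ[k] V)) (B : Subgroup A) (W : Submodule k V) (h : ∀ a ∈ B, ∀ v ∈ W, ρ a v ∈ W) :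
    B →* (W →ₗ[k] W) where
  toFun a := (ρ a).restrict (h a a.2)
  map_one' := by
    ext v
    simp [LinearMap.restrict_apply]
  map_mul' a b := by
    ext v
    simp [LinearMap.restrict_apply, Module.End.mul_apply]

theorem res_apply (ρ : A →* (V →ₗ[k] V)) (B : Subgroup A) (W : Submodule k V) (h : ∀ a ∈ B, ∀ v ∈ W, ρ a v ∈ W) (a : B)
    (v : W) : ((res ρ B W h a v : W) : V) = ρ a v := rfl

/-- the index of `H` in `H K` -/
theorem index_of_sup [Finite A] (H K : Subgroup A) [K.Normal] (h : H ⊔ K = ⊤) : H.index = H.relIndex K := by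
  have h1 : K.index = K.relIndex H := by
    rw [← relIndex_top_right, ← h, relIndex_sup_right]
  have h2 := H.card_mul_index
  have h3 := K.card_mul_index
  have h4 : Nat.card (H ⊓ K : Subgroup A) * K.relIndex H = Nat.card H := by
    rw [← inf_relIndex_right, inf_comm K H, Subgroup.relIndex, ← ((H ⊓ K).subgroupOf H).card_mul_index,
      Nat.card_congr (Subgroup.subgroupOfEquivOfLe inf_le_left).toEquiv]
  have h5 : Nat.card (H ⊓ K : Subgroup A) * H.relIndex K = Nat.card K := by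
    rw [← inf_relIndex_right, Subgroup.relIndex, ← ((H ⊓ K).subgroupOf K).card_mul_index,
      Nat.card_congr (Subgroup.subgroupOfEquivOfLe inf_le_right).toEquiv]
  have h6 : Nat.card H * H.index = Nat.card H * H.relIndex K := by
    rw [h2, ← h3, h1, ← h4, ← h5]; ring
  exact Nat.eq_of_mul_eq_mul_left Nat.card_pos h6

end gen

/-- **C3: `A₆` in dimension 3** -/
theorem no_A6 {k : Type} [Field k] [IsAlgClosed k] {V : Type} [AddCommGroup V] [Module k V]
    [FiniteDimensional k V] {A : Type} [Group A] [Finite A] (ρ : A →* (V →ₗ[k] V)) (hinj : Function.Injective ρ)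
    (h2 : (2 : k) ≠ 0) (hc : (Nat.card A : k) ≠ 0) {L : Subgroup A} (hL : Cfsg.IsComponent L)
    (e : Nonempty ((↥L ⧸ Subgroup.center ↥L) ≃* alternatingGroup (Fin 6))) (hd : Module.finrank k (cm ρ L) = 3)
    (S : Sylow 2 A) (P : Subgroup A) (hPS : P ≤ (S : Subgroup A)) (h16 : 16 ≤ Nat.card P)
    (hP : ∀ a ∈ P, ∀ x ∈ L, a * x * a⁻¹ ∈ L) (hPC : ∀ a ∈ P, (∀ x ∈ L, a * x = x * a) → a = 1)
    (hQ : ∃ Q ≤ P, AutQuat.IsQ Q) (hLP : ∀ x ∈ L, x ∈ (S : Subgroup A) → x ∈ P) : False := by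
  have hf2 : Fact (Nat.Prime 2) := ⟨Nat.prime_two⟩
  obtain ⟨e⟩ := e
  obtain ⟨Q, hQP, hQ⟩ := hQ
  have ne_of_dvd : ∀ m : ℕ, m ∣ Nat.card A → (m : k) ≠ 0 := by
    rintro m ⟨c, hc'⟩ h
    apply hc
    rw [hc', Nat.cast_mul, h, zero_mul]
  set B := P ⊔ L with hB
  have hPB : P ≤ B := le_sup_left
  have hLB : L ≤ B := le_sup_right
  have hBN : B ≤ normalizer (L : Set A) := by
    refine sup_le (fun a ha => ?_) le_normalizer
    rw [mem_normalizer_iff]
    intro x
    refine ⟨hP a ha x, fun h => ?_⟩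
    have := hP a⁻¹ (inv_mem ha) _ h
    have e : a⁻¹ * (a * x * a⁻¹) * a⁻¹⁻¹ = x := by group
    rwa [e] at this
  have hBn : ∀ a ∈ B, ∀ x ∈ L, a * x * a⁻¹ ∈ L := fun a ha x hx => (mem_normalizer_iff.1 (hBN ha) x).1 hx
  let ρ' := res ρ B (cm ρ L) fun a ha => cm_inv ρ (hBn a ha)
  let L' := L.subgroupOf B
  have hn : L'.Normal := ⟨fun x hx a => hBn a a.2 x hx⟩
  let P0 := P.subgroupOf B
  have hsup : P0 ⊔ L' = ⊤ := by
    have := subgroupOf_sup hPB hLB
    rw [← this, ← hB, subgroupOf_self]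
  have hodd : ¬ 2 ∣ P0.index := by
    rw [index_of_sup P0 L' hsup]
    have h1 : P0.relIndex L' = P.relIndex L := relIndex_subgroupOf hLB
    rw [h1, ← inf_relIndex_right]
    intro hd
    have h3 : (S : Subgroup A) ⊓ L ≤ P ⊓ L := fun x hx => ⟨hLP x hx.2 hx.1, hx.2⟩
    have h4 := hd.trans (relIndex_dvd_of_le_left L h3)
    rw [inf_relIndex_right] at h4
    exact S.not_dvd_index (h4.trans
      (SignalizersComponents.PCompCore.relIndex_dvd_index_of_subnormal (S : Subgroup A) hL.1))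
  have hP2 : IsPGroup 2 P := S.2.to_le hPS
  let P' : Sylow 2 B := (hP2.comap_subtype : IsPGroup 2 P0).toSylow hodd
  let eL : L' ≃* L := subgroupOfEquivOfLe hLB
  let π : L' →* AA := e.toMonoidHom.comp ((QuotientGroup.mk' (center L)).comp eL.toMonoidHom)
  have hcardL : Nat.card L = Nat.card (center L) * 360 := by
    rw [← A6.card_AA, ← (center L).card_mul_index, index_eq_card, Nat.card_congr e.toEquiv]
  have C : Ctx ρ' L' π P' := by
    refine ⟨hd, h2, ?_, hn, ?_, ?_, ?_, ?_, ?_, ?_, ?_⟩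
    · have h5 : 5 ∣ Nat.card L := by
        rw [hcardL]
        exact (show 5 ∣ 360 by norm_num).mul_left _
      have := ne_of_dvd 5 (h5.trans (card_subgroup_dvd_card L))
      exact_mod_cast this
    · have h3 : Group.IsPerfect L := hL.2.1
      have h4 : Group.IsPerfect L' := Group.IsPerfect.ofSurjective (f := eL.symm.toMonoidHom) eL.symm.surjective
      exact h4.commutator_eq_top
    · intro x hx h3
      apply Subtype.ext
      apply hinj
      rw [OneMemClass.coe_one, map_one]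
      apply eq_one_of_cm ρ (ne_of_dvd _ (card_subgroup_dvd_card L)) hx
      intro v hv
      have h4 := congrArg (fun t : (cm ρ L) →ₗ[k] (cm ρ L) => ((t ⟨v, hv⟩ : cm ρ L) : V)) h3
      exact h4
    · exact e.surjective.comp ((QuotientGroup.mk'_surjective _).comp eL.surjective)
    · intro x hx y
      have h3 : QuotientGroup.mk' (center L) (eL x) = 1 := e.injective (by rw [map_one]; exact hx)
      have h4 := mem_center_iff.1 ((QuotientGroup.eq_one_iff _).1 h3) (eL y)
      apply eL.injective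
      rw [map_mul, map_mul]
      exact h4.symm
    · intro a
      have h3 : a ∈ L' ⊔ P0 := by rw [sup_comm, hsup]; exact mem_top a
      obtain ⟨l, hl, p, hp, h⟩ := mem_sup_of_normal_left.1 h3
      exact ⟨l, hl, p, hp, h.symm⟩
    · have : Nat.card P' = Nat.card P := Nat.card_congr (subgroupOfEquivOfLe hPB).toEquiv
      rw [this]
      exact h16
    · intro a ha h3
      apply Subtype.ext
      refine hPC a (mem_subgroupOf.1 ha) fun x hx => ?_
      exact congrArg Subtype.val (h3 ⟨x, hLB hx⟩ (mem_subgroupOf.2 hx))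
  refine C.core (Q := Q.subgroupOf B) (fun x hx => ?_) ?_
  · exact mem_subgroupOf.2 (hQP (mem_subgroupOf.1 hx))
  · obtain ⟨n, ⟨f⟩⟩ := hQ
    exact ⟨n, ⟨(subgroupOfEquivOfLe (hQP.trans hPB)).trans f⟩⟩

end Cfsg.Agent.H173.Hall
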